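import Cfsg.Agent.H643.PwCnt
import Cfsg.Agent.H49.ThFiveDat
import Cfsg.Agent.H49.ThSevenDat
import Cfsg.Agent.H174.Ore.DegTh
import Cfsg.Agent.H65.Ore.Split

/-!
# Pw (S2465) for the Thompson group: primes `≥ 5`, and the class product sieve (helper980)

* `big_th` : `All p Th` for all primes `p ≥ 5`;
* `pr_of_card` : `|C(g)| ≤ 60000` gives `g = x y`, `x`, `y` of order 31.
-/

set_option autoImplicit false

namespace Cfsg.Agent.H980.Ore.PwTh

open Subgroup Cfsg Cfsg.Agent.H78.Pw Cfsg.Agent.H643.PwCnt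

universe u

/-- one class of elements of order `p`, `p ≥ 3` -/
theorem all_of_one_class {G : Type u} [Group G] [Finite G] {p : ℕ} (hp : p.Prime) (h3 : 3 ≤ p) {z : G} (hz : orderOf z = p)
    (hcl : ∀ y : G, orderOf y = p → ∃ g : G, g * y * g⁻¹ = z) : All p G := by
  refine all_of_one hp (zpowers z) (by rw [Nat.card_zpowers, hz]) (fun y hy => ?_) ?_
  · obtain ⟨g, hg⟩ := hcl y hy
    exact ⟨g, by rw [hg]; exact mem_zpowers z⟩
  · intro hle
    have h2 : orderOf (z ^ 2) = p := by
      rw [Nat.Coprime.orderOf_pow, hz]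
      rw [hz]
      exact (Nat.coprime_primes hp Nat.prime_two).2 (by omega)
    obtain ⟨g, hg⟩ := hcl _ h2
    have hgN : g⁻¹ ∈ normalizer (zpowers z : Set G) := by
      have h4 : g⁻¹ * z * g = z ^ 2 := by
        calc g⁻¹ * z * g = g⁻¹ * (g * z ^ 2 * g⁻¹) * g := by rw [hg]
          _ = z ^ 2 := by group
      have h5 : (zpowers z).map (MulAut.conj g⁻¹).toMonoidHom = zpowers z := by
        apply Subgroup.eq_of_le_of_card_ge
        · rw [MonoidHom.map_zpowers, zpowers_le]
          change g⁻¹ * z * g⁻¹⁻¹ ∈ zpowers z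
          rw [inv_inv, h4]
          exact pow_mem (mem_zpowers z) 2
        · rw [Subgroup.card_map_of_injective (MulAut.conj g⁻¹).injective]
      rw [mem_normalizer_iff]
      intro y
      constructor
      · intro hy
        rw [← h5]
        exact ⟨y, hy, rfl⟩
      · intro hy
        rw [← h5] at hy
        obtain ⟨w, hw, hwy⟩ := hy
        have : w = y := (MulAut.conj g⁻¹).injective hwy
        rwa [← this]
    have h6 := hle hgN
    rw [mem_centralizer_iff] at h6
    have h7 := h6 z (mem_zpowers z)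
    have h8 : g⁻¹ * z * g = z := by rw [← h7]; group
    have h9 : g⁻¹ * z * g = z ^ 2 := by
      calc g⁻¹ * z * g = g⁻¹ * (g * z ^ 2 * g⁻¹) * g := by rw [hg]
        _ = z ^ 2 := by group
    rw [h8, pow_two] at h9
    have h10 : z = 1 := by
      have := mul_left_cancel (a := z) (b := z) (c := 1) (by rw [mul_one]; exact h9.symm)
      exact this
    rw [h10, orderOf_one] at hz
    omega

/-- **(II)** -/
theorem big_th' {p : ℕ} (hp : p.Prime) (h5 : 5 ≤ p) : All p Spor.Th := by
  have := H174.Ore.Th.finite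
  have := H174.Ore.Th.simple
  by_cases hp5 : p = 5
  · subst hp5
    obtain ⟨_, x, y, z, a, D⟩ := H49.ThFive.exists_dat
    exact all_of_one_class hp (by norm_num) D.oz fun u hu => D.all hu
  by_cases hp7 : p = 7
  · subst hp7
    exact all_of_one_class hp (by norm_num) H49.ThSeven.dat.hx fun u hu => H49.ThSeven.dat.one u hu
  · apply all_of_not_sq_dvd H174.Ore.Th.nonab hp
    rw [H174.Ore.Th.card]
    intro h
    have hc : ∀ q : ℕ, q.Prime → p ≠ q → p.Coprime q := fun q hq hne => (Nat.coprime_primes hp hq).2 hne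
    have h2 : (p ^ 2).Coprime (2 ^ 15 * 3 ^ 10 * 5 ^ 3 * 7 ^ 2) := by
      apply Nat.Coprime.pow_left
      refine ((Nat.Coprime.mul_right ?_ ?_).mul_right ?_).mul_right ?_
      · exact (hc 2 Nat.prime_two (by omega)).pow_right _
      · exact (hc 3 Nat.prime_three (by omega)).pow_right _
      · exact (hc 5 Nat.prime_five hp5).pow_right _
      · exact (hc 7 (by norm_num) hp7).pow_right _
    have h3 : p ^ 2 ∣ 13 * 19 * 31 := by
      apply h2.dvd_of_dvd_mul_left
      exact h.trans (by norm_num)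
    have h4 : p ∣ 13 * (19 * 31) := (dvd_pow_self p two_ne_zero).trans (by rwa [← mul_assoc])
    rcases (Nat.Prime.dvd_mul hp).1 h4 with h6 | h6
    · rw [(Nat.prime_dvd_prime_iff_eq hp (by norm_num)).1 h6] at h3
      norm_num at h3
    rcases (Nat.Prime.dvd_mul hp).1 h6 with h6 | h6
    · rw [(Nat.prime_dvd_prime_iff_eq hp (by norm_num)).1 h6] at h3
      norm_num at h3
    · rw [(Nat.prime_dvd_prime_iff_eq hp (by norm_num)).1 h6] at h3
      norm_num at h3

/-- **The sieve.** -/
theorem pr_of_card {g : Spor.Th} (hg : Nat.card (centralizer ({g} : Set Spor.Th)) ≤ 60000) : Pr 6 g := by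
  have := H174.Ore.Th.finite
  have := H174.Ore.Th.simple
  obtain ⟨f, hf⟩ := H174.Ore.Th.exists_emb
  obtain ⟨x, hx⟩ := H174.Ore.Th.exists_ord (r := 31) (by norm_num) (by norm_num)
  obtain ⟨a, b, e⟩ := H65.Ore.prd_all H174.Ore.Th.nonab (p := 31) (by norm_num) H174.Ore.Th.card hx
    (H829.Pw.th_cent31 hf hx) 15 2 143 (by decide +kernel) (DN := 1520) (DX := 3705) (c := 60000)
    (fun χ h1 h2 => H174.Ore.Th.degN χ h1 (by
      simp only [H511.Ore.pNE, Bool.or_eq_true, Nat.beq_eq]
      exact h2))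
    (fun χ h1 h2 => H174.Ore.Th.degX χ h1 (by
      simp only [H511.Ore.pX, Bool.or_eq_true, Nat.beq_eq]
      exact h2)) (by norm_num) (by norm_num) hx hg
  have h1 : ∀ a : Spor.Th, (orderOf (a * x * a⁻¹)).Coprime 6 := by
    intro a
    have : orderOf (a * x * a⁻¹) = orderOf x := MulEquiv.orderOf_eq (MulAut.conj a) x
    rw [this, hx]
    decide
  exact Pr.mk e (h1 a) (h1 b)

end Cfsg.Agent.H980.Ore.PwTh
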