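import Cfsg.Agent.H980.Ore.ThLoc
import Cfsg.Agent.CpAutTh.ThreeE
import Cfsg.Agent.H683.Ore.A9

/-!
# Pw (S2465) for the Thompson group: centralizers in `C(a) = 2^(1+8).A9` (helper980)

* `card_cent_le` : `g ∈ C(a)` outside `Q` has `|C_{C(a)}(g)| ≤ 59904`.
-/

set_option autoImplicit false
set_option maxRecDepth 100000

namespace Cfsg.Agent.H980.Ore.PwTh

open Subgroup Cfsg Cfsg.Agent.H980.Ore.ThLoc

universe u v

/-! ### general -/

section

variable {C : Type u} {A : Type v} [Group C] [Group A]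

/-- centralizers and homomorphisms -/
theorem card_cent_le_mul (f : C →* A) [Finite A] (g : C) :
    Nat.card (centralizer ({g} : Set C)) ≤
      Nat.card ↥(f.ker ⊓ centralizer ({g} : Set C)) * Nat.card (centralizer ({f g} : Set A)) := by
  let ψ : centralizer ({g} : Set C) →* centralizer ({f g} : Set A) :=
    { toFun := fun x => ⟨f x, by
        rw [mem_centralizer_singleton_iff, ← map_mul, ← map_mul, mem_centralizer_singleton_iff.1 x.2]⟩
      map_one' := Subtype.ext (map_one f)
      map_mul' := fun a b => Subtype.ext (map_mul f (a : C) (b : C)) }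
  have h1 : Nat.card ψ.ker = Nat.card ↥(f.ker ⊓ centralizer ({g} : Set C)) := by
    refine Nat.card_congr
      { toFun := fun m => ⟨((m : centralizer ({g} : Set C)) : C), congrArg Subtype.val m.2, (m : centralizer ({g} : Set C)).2⟩
        invFun := fun q => ⟨⟨(q : C), q.2.2⟩, Subtype.ext q.2.1⟩
        left_inv := fun _ => rfl
        right_inv := fun _ => rfl }
  rw [← card_mul_index ψ.ker, h1, index_ker]
  exact Nat.mul_le_mul_left _ (card_le_card_of_injective _ (subtype_injective ψ.range))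
where
  card_le_card_of_injective {X Y : Type v} [Finite Y] (φ : X → Y) (h : Function.Injective φ) : Nat.card X ≤ Nat.card Y :=
    Nat.card_le_card_of_injective φ h

/-- two subgroups of `Q` with small intersection -/
theorem card_mul_le [Finite C] {Q K L : Subgroup C} (hK : K ≤ Q) (hL : L ≤ Q) :
    Nat.card K * Nat.card L ≤ Nat.card Q * Nat.card ↥(K ⊓ L) := by
  have h1 := relIndex_mul_relIndex ⊥ K Q bot_le hK
  have h2 := relIndex_mul_relIndex ⊥ L Q bot_le hL
  have h3 := relIndex_mul_relIndex ⊥ (K ⊓ L) Q bot_le (inf_le_left.trans hK)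
  simp only [relIndex_bot_left] at h1 h2 h3
  have h4 : (K ⊓ L).relIndex Q ≤ K.relIndex Q * L.relIndex Q := relIndex_inf_le
  have h5 : 0 < Nat.card Q := Nat.card_pos
  have h6 : Nat.card Q * (Nat.card K * Nat.card L) ≤ Nat.card Q * (Nat.card Q * Nat.card ↥(K ⊓ L)) := by
    calc Nat.card Q * (Nat.card K * Nat.card L) = (Nat.card ↥(K ⊓ L) * (K ⊓ L).relIndex Q) * (Nat.card K * Nat.card L) := by
          rw [h3]
      _ ≤ (Nat.card ↥(K ⊓ L) * (K.relIndex Q * L.relIndex Q)) * (Nat.card K * Nat.card L) :=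
          Nat.mul_le_mul_right _ (Nat.mul_le_mul_left _ h4)
      _ = (Nat.card K * K.relIndex Q) * (Nat.card L * L.relIndex Q) * Nat.card ↥(K ⊓ L) := by ring
      _ = _ := by rw [h1, h2]; ring
  exact Nat.le_of_mul_le_mul_left h6 h5

end

/-! ### the alternating group -/

section alt

open Equiv Equiv.Perm Cfsg.Agent.H683.Ore.A9 Cfsg.Agent.H683.Ore

/-- the order of the centralizer of a permutation of type `m` -/
def cv (m : Multiset ℕ) : ℕ := Nat.factorial (9 - m.sum) * m.prod * ∏ n ∈ m.toFinset, Nat.factorial (m.count n)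

theorem card_cv (σ : Perm (Fin 9)) : Nat.card (centralizer ({σ} : Set (Perm (Fin 9)))) = cv σ.cycleType := by
  rw [Equiv.Perm.nat_card_centralizer, Fintype.card_fin]
  rfl

theorem cv_types : ∀ l ∈ types, l = [2, 2] ∨ l = [3] ∨ l = [2, 2, 2, 2] ∨ cv (l : Multiset ℕ) ≤ 234 := by
  intro l hl
  simp only [types, List.mem_cons, List.not_mem_nil, or_false] at hl
  rcases hl with rfl | rfl | rfl | rfl | rfl | rfl | rfl | rfl | rfl | rfl | rfl | rfl | rfl | rfl | rfl
  · simp
  · simp
  · simp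
  all_goals
    right; right; right
    unfold cv
    decide

/-- the type of an element of the alternating group -/
theorem exists_type (σ : alternatingGroup (Fin 9)) (h1 : σ ≠ 1) : ∃ l ∈ types, (σ : Perm (Fin 9)).cycleType = (l : Multiset ℕ) := by
  have h2 : sign (σ : Perm (Fin 9)) = 1 := mem_alternatingGroup.1 σ.2
  obtain ⟨l, hl, h⟩ := cycleType_mem_gen (σ : Perm (Fin 9))
  refine ⟨l, cases_types l hl ?_ ?_, h⟩
  · rintro rfl
    exact h1 (Subtype.ext (cycleType_eq_zero.1 (by rw [h]; rfl)))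
  · rw [sign_of_cycleType, h] at h2
    simp only [Multiset.sum_coe, Multiset.coe_card] at h2
    by_contra hodd
    have h3 : Odd (l.sum + l.length) := Nat.odd_iff.2 (by omega)
    rw [h3.neg_one_pow] at h2
    exact absurd h2 (by decide)

theorem cent_alt_le (σ : alternatingGroup (Fin 9)) : Nat.card (centralizer ({σ} : Set (alternatingGroup (Fin 9)))) ≤
    Nat.card (centralizer ({(σ : Perm (Fin 9))} : Set (Perm (Fin 9)))) := by
  refine Nat.card_le_card_of_injective (fun g => ⟨((g : alternatingGroup (Fin 9)) : Perm (Fin 9)),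
    mem_centralizer_singleton_iff.2 (congrArg Subtype.val (mem_centralizer_singleton_iff.1 g.2))⟩) ?_
  intro a b h
  have h1 : ((a : alternatingGroup (Fin 9)) : Perm (Fin 9)) = (b : alternatingGroup (Fin 9)) := by
    simpa using h
  exact Subtype.ext (Subtype.ext h1)

theorem cent_alt_half {σ : alternatingGroup (Fin 9)} {ρ c : Perm (Fin 9)} (hρ : (σ : Perm (Fin 9)).cycleType = ρ.cycleType)
    (hc : sign c = -1) (hcρ : c * ρ = ρ * c) :
    2 * Nat.card (centralizer ({σ} : Set (alternatingGroup (Fin 9)))) = cv ρ.cycleType := by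
  obtain ⟨g, hg⟩ := isConj_iff.1 (isConj_iff_cycleType_eq.2 hρ.symm)
  rw [Cfsg.Agent.CpAutTh.ThreePerm.card_cent_alt σ (g * c * g⁻¹) ?_ ?_, card_cv, hρ]
  · rw [map_mul, map_mul, map_inv, mul_comm (sign g) (sign c), mul_inv_cancel_right, hc]
  · rw [← hg]
    calc g * c * g⁻¹ * (g * ρ * g⁻¹) = g * (c * ρ) * g⁻¹ := by group
      _ = g * (ρ * c) * g⁻¹ := by rw [hcρ]
      _ = _ := by group

def r22 : Perm (Fin 9) := swap 0 1 * swap 2 3
def r3 : Perm (Fin 9) := swap 0 1 * swap 1 2
def r2222 : Perm (Fin 9) := swap 0 1 * swap 2 3 * swap 4 5 * swap 6 7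
/-- `(0 1 2 3 4)` -/
def k22 : Perm (Fin 9) := swap 0 1 * swap 1 2 * swap 2 3 * swap 3 4
/-- `(0 2 4 1 3)` -/
def k3 : Perm (Fin 9) := swap 0 2 * swap 2 4 * swap 4 1 * swap 1 3

theorem t22 : r22.cycleType = (([2, 2] : List ℕ) : Multiset ℕ) := by decide +kernel
theorem t3 : r3.cycleType = (([3] : List ℕ) : Multiset ℕ) := by decide +kernel
theorem t2222 : r2222.cycleType = (([2, 2, 2, 2] : List ℕ) : Multiset ℕ) := by decide +kernel
theorem s22 : sign k22 = 1 := by decide +kernel
theorem s3 : sign k3 = 1 := by decide +kernel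
theorem f22 : (r22 * (k22 * r22 * k22⁻¹)).cycleType = (([5] : List ℕ) : Multiset ℕ) := by decide +kernel
theorem f3 : (r3 * (k3 * r3 * k3⁻¹)).cycleType = (([5] : List ℕ) : Multiset ℕ) := by decide +kernel
theorem c22 : sign (swap 0 1 : Perm (Fin 9)) = -1 ∧ swap 0 1 * r22 = r22 * swap 0 1 := by decide +kernel
theorem c3 : sign (swap 3 4 : Perm (Fin 9)) = -1 ∧ swap 3 4 * r3 = r3 * swap 3 4 := by decide +kernel
theorem c2222 : sign (swap 0 1 : Perm (Fin 9)) = -1 ∧ swap 0 1 * r2222 = r2222 * swap 0 1 := by decide +kernel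

theorem v22 : cv (([2, 2] : List ℕ) : Multiset ℕ) = 960 := by unfold cv; decide
theorem v3 : cv (([3] : List ℕ) : Multiset ℕ) = 2160 := by unfold cv; decide
theorem v2222 : cv (([2, 2, 2, 2] : List ℕ) : Multiset ℕ) = 384 := by unfold cv; decide

theorem exists_five {σ : alternatingGroup (Fin 9)} {ρ k : Perm (Fin 9)} (hρ : (σ : Perm (Fin 9)).cycleType = ρ.cycleType)
    (hk : sign k = 1) (h5 : (ρ * (k * ρ * k⁻¹)).cycleType = (([5] : List ℕ) : Multiset ℕ)) :
    ∃ τ : alternatingGroup (Fin 9), orderOf (σ * (τ * σ * τ⁻¹)) = 5 := by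
  obtain ⟨g, hg⟩ := isConj_iff.1 (isConj_iff_cycleType_eq.2 hρ.symm)
  have hs : sign (g * k * g⁻¹) = 1 := by
    rw [map_mul, map_mul, map_inv, hk, mul_one, mul_inv_cancel]
  refine ⟨⟨g * k * g⁻¹, mem_alternatingGroup.2 hs⟩, ?_⟩
  rw [← Subgroup.orderOf_coe]
  have e : ((σ * (⟨g * k * g⁻¹, mem_alternatingGroup.2 hs⟩ * σ * ⟨g * k * g⁻¹, mem_alternatingGroup.2 hs⟩⁻¹) :
      alternatingGroup (Fin 9)) : Perm (Fin 9)) = g * (ρ * (k * ρ * k⁻¹)) * g⁻¹ := by
    change (σ : Perm (Fin 9)) * ((g * k * g⁻¹) * σ * (g * k * g⁻¹)⁻¹) = _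
    rw [← hg]
    group
  rw [e, ← Equiv.Perm.lcm_cycleType, cycleType_conj, h5]
  decide

/-- **The elements of `A9`.** -/
theorem alt_cases (σ : alternatingGroup (Fin 9)) (h1 : σ ≠ 1) :
    Nat.card (centralizer ({σ} : Set (alternatingGroup (Fin 9)))) ≤ 234 ∨
    (Nat.card (centralizer ({σ} : Set (alternatingGroup (Fin 9)))) ≤ 1080 ∧
      ∃ τ : alternatingGroup (Fin 9), orderOf (σ * (τ * σ * τ⁻¹)) = 5) := by
  obtain ⟨l, hl, h⟩ := exists_type σ h1
  rcases cv_types l hl with rfl | rfl | rfl | h2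
  · right
    have h3 := cent_alt_half (σ := σ) (ρ := r22) (h.trans t22.symm) c22.1 c22.2
    rw [t22, v22] at h3
    exact ⟨by omega, exists_five (h.trans t22.symm) s22 f22⟩
  · right
    have h3 := cent_alt_half (σ := σ) (ρ := r3) (h.trans t3.symm) c3.1 c3.2
    rw [t3, v3] at h3
    exact ⟨by omega, exists_five (h.trans t3.symm) s3 f3⟩
  · left
    have h3 := cent_alt_half (σ := σ) (ρ := r2222) (h.trans t2222.symm) c2222.1 c2222.2
    rw [t2222, v2222] at h3
    omega
  · left
    refine (cent_alt_le σ).trans ?_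
    rw [card_cv, h]
    exact h2

end alt

/-! ### the centralizer of an involution of `Th` -/

section main

open Cfsg.Agent.KFacts.Th.Struct Cfsg.Agent.Th.CStruct

variable {G : Type u} [Group G] {γ : ℕ → G} (h : Ctx γ)
  {π : Subgroup.centralizer ({γ 1} : Set G) →* alternatingGroup (Fin 9)}
  (D : Cfsg.Agent.KFacts.LargeSheet.Data (Q0 γ) (γ 1) (alternatingGroup (Fin 9)) π)
include h D

theorem card_ker : Nat.card π.ker = 512 := by
  rw [← h.cardQ]
  refine Nat.card_congr
    { toFun := fun m => ⟨((m : Subgroup.centralizer ({γ 1} : Set G)) : G), (mem_ker D).1 m.2⟩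
      invFun := fun q => ⟨⟨(q : G), by
        rw [h.cent]; exact h.Q_le q.2⟩, (mem_ker D).2 q.2⟩
      left_inv := fun _ => rfl
      right_inv := fun _ => rfl }

theorem card_Q_le {g : Subgroup.centralizer ({γ 1} : Set G)} (hg : g ∉ π.ker) :
    Nat.card ↥(π.ker ⊓ centralizer ({g} : Set (Subgroup.centralizer ({γ 1} : Set G)))) ≤ 256 := by
  have hfin := h.fin
  have h1 := card_ker h D
  have h2 := relIndex_mul_relIndex ⊥ (π.ker ⊓ centralizer ({g} : Set (Subgroup.centralizer ({γ 1} : Set G)))) π.ker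
    bot_le inf_le_left
  simp only [relIndex_bot_left] at h2
  rw [h1] at h2
  have h3 : (π.ker ⊓ centralizer ({g} : Set (Subgroup.centralizer ({γ 1} : Set G)))).relIndex π.ker ≠ 1 := by
    rw [Ne, relIndex_eq_one]
    intro hle
    apply hg
    apply faithful h D
    intro x hx
    left
    have h4 := mem_centralizer_singleton_iff.1 (hle hx).2
    rw [← h4, mul_inv_cancel_right]
  have h4 : (π.ker ⊓ centralizer ({g} : Set (Subgroup.centralizer ({γ 1} : Set G)))).relIndex π.ker ≠ 0 := by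
    intro h0
    rw [h0, mul_zero] at h2
    exact absurd h2 (by norm_num)
  have h5 : 2 ≤ (π.ker ⊓ centralizer ({g} : Set (Subgroup.centralizer ({γ 1} : Set G)))).relIndex π.ker := by omega
  have h6 := Nat.mul_le_mul_left
    (Nat.card ↥(π.ker ⊓ centralizer ({g} : Set (Subgroup.centralizer ({γ 1} : Set G))))) h5
  omega

theorem card_Q_le' {g x : Subgroup.centralizer ({γ 1} : Set G)} (hg : 5 ∣ orderOf (π (g * (x * g * x⁻¹)))) :
    Nat.card ↥(π.ker ⊓ centralizer ({g} : Set (Subgroup.centralizer ({γ 1} : Set G)))) ≤ 32 := by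
  have hfin := h.fin
  set K := π.ker ⊓ centralizer ({g} : Set (Subgroup.centralizer ({γ 1} : Set G))) with hK
  set L := π.ker ⊓ centralizer ({x * g * x⁻¹} : Set (Subgroup.centralizer ({γ 1} : Set G))) with hL
  have h1 : Nat.card L = Nat.card K := by
    have h2 : L = K.map (MulAut.conj x).toMonoidHom := by
      ext u
      constructor
      · rintro ⟨hu1, hu2⟩
        refine ⟨x⁻¹ * u * x, ⟨?_, ?_⟩, ?_⟩
        · have := (inferInstance : π.ker.Normal).conj_mem u hu1 x⁻¹
          rwa [inv_inv] at this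
        · have h3 := mem_centralizer_singleton_iff.1 hu2
          refine mem_centralizer_singleton_iff.2 ?_
          calc x⁻¹ * u * x * g = x⁻¹ * (u * (x * g * x⁻¹)) * x := by group
            _ = x⁻¹ * (x * g * x⁻¹ * u) * x := by rw [h3]
            _ = _ := by group
        · change x * (x⁻¹ * u * x) * x⁻¹ = u
          group
      · rintro ⟨w, ⟨hw1, hw2⟩, rfl⟩
        refine ⟨(inferInstance : π.ker.Normal).conj_mem w hw1 x, ?_⟩
        have h3 := mem_centralizer_singleton_iff.1 hw2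
        refine mem_centralizer_singleton_iff.2 ?_
        change x * w * x⁻¹ * (x * g * x⁻¹) = x * g * x⁻¹ * (x * w * x⁻¹)
        calc x * w * x⁻¹ * (x * g * x⁻¹) = x * (w * g) * x⁻¹ := by group
          _ = x * (g * w) * x⁻¹ := by rw [h3]
          _ = _ := by group
    rw [h2, Subgroup.card_map_of_injective (MulAut.conj x).injective]
  have h2 : Nat.card ↥(K ⊓ L) ≤ 2 := by
    have h3 : K ⊓ L ≤ zpowers (zz γ) := by
      rintro u ⟨⟨hu, hu1⟩, -, hu2⟩
      have h4 := mem_centralizer_singleton_iff.1 hu1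
      have h5 := mem_centralizer_singleton_iff.1 hu2
      have hf1 : Fx γ u g := by left; rw [← h4, mul_inv_cancel_right]
      have hf2 : Fx γ u (x * g * x⁻¹) := by left; rw [← h5, mul_inv_cancel_right]
      rcases fpf_of_dvd h D hg hu (Fx.mul D hf1 hf2) with e | e
      · rw [e]; exact one_mem _
      · rw [e]; exact mem_zpowers _
    have h4 : Nat.card (zpowers (zz γ)) ≤ 2 := by
      rw [Nat.card_zpowers]
      exact Nat.le_of_dvd (by norm_num) (orderOf_dvd_of_pow_eq_one (by rw [pow_two]; exact (es D).sq))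
    exact (Subgroup.card_le_of_le h3).trans h4
  have h3 : Nat.card K * Nat.card L ≤ Nat.card π.ker * Nat.card ↥(K ⊓ L) := card_mul_le inf_le_left inf_le_left
  rw [h1, card_ker h D] at h3
  have h4 : Nat.card K * Nat.card K ≤ 1024 := h3.trans (Nat.mul_le_mul_left _ h2)
  by_contra h5
  push Not at h5
  have h6 : 33 * 33 ≤ Nat.card K * Nat.card K := Nat.mul_le_mul h5 h5
  omega

/-- **The centralizers in `C(a)` of the elements outside `Q`.** -/
theorem card_cent_le {g : Subgroup.centralizer ({γ 1} : Set G)} (hg : g ∉ π.ker) :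
    Nat.card (centralizer ({g} : Set (Subgroup.centralizer ({γ 1} : Set G)))) ≤ 60000 := by
  have hfin := h.fin
  refine (card_cent_le_mul π g).trans ?_
  rcases alt_cases (π g) hg with h1 | ⟨h1, τ, hτ⟩
  · refine (Nat.mul_le_mul (card_Q_le h D hg) h1).trans (by norm_num)
  · obtain ⟨x, rfl⟩ := D.surj τ
    have h2 : 5 ∣ orderOf (π (g * (x * g * x⁻¹))) := by
      rw [map_mul, map_mul, map_mul, map_inv, hτ]
    refine (Nat.mul_le_mul (card_Q_le' h D h2) h1).trans (by norm_num)

end main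

end Cfsg.Agent.H980.Ore.PwTh
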