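import Cfsg.Agent.H980.Ore.ThLoc
import Cfsg.Agent.H502.TO.Main
import Cfsg.Agent.H468.PW.Th
import Cfsg.Agent.H894.ThThree.Main

/-!
# Ore for the Thompson group: the reduction to the class product sieve (helper980)

`bound` : an element with a centralizer of odd order has `|C(x)| < 2 ^ 15` or is `1`.
`ore_of` : the row, from `|C(g)| ≤ 32767 → g` is a commutator.
-/

set_option autoImplicit false

namespace Cfsg.Agent.H980.Ore.ThRow

open Subgroup Cfsg Cfsg.Agent.H777.Ore Cfsg.Agent.H502.TO

universe u

/-- an element of the Thompson group which commutes with no involution has a small centralizer -/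
theorem bound {x : Spor.Th} (hx : x ≠ 1) (hodd : Odd (Nat.card (centralizer ({x} : Set Spor.Th)))) :
    Nat.card (centralizer ({x} : Set Spor.Th)) < 2 ^ 15 := by
  have := fin_th
  by_cases h7 : 7 ∣ Nat.card (centralizer ({x} : Set Spor.Th))
  · obtain ⟨y, hyF, hy⟩ := exists_of_dvd (by norm_num) h7
    have hyx : y * x = x * y := mem_centralizer_singleton_iff.1 hyF
    have hxy : x ∈ centralizer ({y} : Set Spor.Th) := mem_centralizer_singleton_iff.2 hyx.symm
    have h1 := Cfsg.Agent.H468.PW.ThP.card_cent hy
    have h2 : ¬ 2 ∣ Nat.card (centralizer ({x} : Set Spor.Th)) :=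
      fun h => (Nat.not_even_iff_odd.2 hodd) (even_iff_two_dvd.2 h)
    have hoF : orderOf x ∣ Nat.card (centralizer ({x} : Set Spor.Th)) := dvd_of_comm rfl
    have ho : orderOf x ∣ 1176 := by
      rw [← h1]
      exact dvd_of_comm hyx.symm
    by_cases h7x : 7 ∣ orderOf x
    · have hz : orderOf (x ^ (orderOf x / 7)) = 7 := orderOf_pow_orderOf_div (orderOf_pos x).ne' h7x
      have hle : centralizer ({x} : Set Spor.Th) ≤ centralizer ({x ^ (orderOf x / 7)} : Set Spor.Th) := by
        intro u hu
        rw [mem_centralizer_singleton_iff]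
        exact ((show Commute u x from mem_centralizer_singleton_iff.1 hu).pow_right _).eq
      have h3 := Subgroup.card_le_of_le hle
      rw [Cfsg.Agent.H468.PW.ThP.card_cent hz] at h3
      exact lt_of_le_of_lt h3 (by norm_num)
    · exfalso
      have h3 : orderOf x ∣ 3 := by
        have k1 : orderOf x ∣ (3 * 7 ^ 2) * 2 ^ 3 := ho.trans (by norm_num)
        have k2 := dvd_of_not Nat.prime_two k1 (fun h => h2 (h.trans hoF))
        exact dvd_of_not (by norm_num) k2 h7x
      rcases (Nat.dvd_prime Nat.prime_three).1 h3 with h4 | h4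
      · exact hx (orderOf_eq_one_iff.1 h4)
      · obtain ⟨i, hi1, hi2, hi3⟩ := Cfsg.Agent.H894.ThThree.exists_inv_of_three (x := x) (by rw [← h4]; exact pow_orderOf_eq_one x)
        apply h2
        have hi : orderOf i = 2 := by
          have : Fact (Nat.Prime 2) := ⟨Nat.prime_two⟩
          exact orderOf_eq_prime (by rw [pow_two]; exact hi2) hi1
        rw [← hi]
        exact dvd_of_comm hi3.symm
  · exact main hx hodd h7

/-- the row, from the sieve -/
theorem allC_of (T1 : ∀ g : Spor.Th, Nat.card (centralizer ({g} : Set Spor.Th)) ≤ 32767 → IsC g) : AllC Spor.Th := by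
  intro x
  have := fin_th
  by_cases hx : x = 1
  · rw [hx]; exact isC_one
  by_cases hodd : Odd (Nat.card (centralizer ({x} : Set Spor.Th)))
  · exact T1 x (by have := bound hx hodd; omega)
  · rw [Nat.not_odd_iff_even, even_iff_two_dvd] at hodd
    obtain ⟨i, hiF, hi⟩ := exists_of_dvd Nat.prime_two hodd
    exact ThLoc.isC_of_comm_inv hi (mem_centralizer_singleton_iff.1 hiF).symm

theorem ore_of (T1 : ∀ g : Spor.Th, Nat.card (centralizer ({g} : Set Spor.Th)) ≤ 32767 → IsC g)
    {S : Type u} [Group S] (h : Spor.IsoTh S) : AllC S := by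
  obtain ⟨e⟩ := h
  exact (allC_of T1).congr e.symm

end Cfsg.Agent.H980.Ore.ThRow
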