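import Cfsg.Agent.H980.Ore.PwThThree
import Cfsg.Agent.H980.Ore.PwThBig
import Cfsg.Agent.H980.Ore.PwThCent
import Cfsg.Agent.H980.Ore.ThRow
import Cfsg.Agent.H134.Sq.Base

/-!
# Pw (S2465) for the Thompson group (helper980)
-/

set_option autoImplicit false
set_option maxRecDepth 100000

namespace Cfsg.Agent.H980.Ore.PwTh

open Subgroup Cfsg Cfsg.Agent.H980.Ore.ThLoc Cfsg.Agent.H78.Pw
open Cfsg.Agent.Th.Base Cfsg.Agent.Th.Word Cfsg.Agent.Th.RelWords
  Cfsg.Agent.Th.CStruct Cfsg.Agent.Th.COracleDef Cfsg.Agent.Th.IndexUpper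
open Cfsg.Agent.KFacts.Th.Mask Cfsg.Agent.KFacts.Th.Struct
open Cfsg.Agent.CpAutTh.Local

universe u

section

variable {G : Type u} [Group G] {γ : ℕ → G} (h : Ctx γ)
  {π : Subgroup.centralizer ({γ 1} : Set G) →* alternatingGroup (Fin 9)}
  (D : Cfsg.Agent.KFacts.LargeSheet.Data (Q0 γ) (γ 1) (alternatingGroup (Fin 9)) π)
include h D

/-- the elements of `Q` outside the centre -/
theorem pr_Q {c : Subgroup.centralizer ({γ 1} : Set G)} (hc : c ∈ π.ker) (h2 : c ≠ zz γ) : Pr 6 c := by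
  have hfin := h.fin
  have ho : (orderOf (yy h)).Coprime 6 :=
    Nat.Coprime.of_dvd_left (orderOf_dvd_of_pow_eq_one (yy_pow h)) (by decide)
  have key : ∀ x ∈ π.ker, ∃ ζ : Subgroup.centralizer ({γ 1} : Set G), (ζ = 1 ∨ ζ = zz γ) ∧ Pr 6 (x * ζ) := by
    intro x hx
    obtain ⟨u, -, v, hv, ζ, hζ, e⟩ := Cfsg.Agent.H6.ORE.FPz.of_left (es D) (a := yy h) 1
      (fun x hx hf => yy_fpf h D hx hf) x hx
    refine ⟨ζ, hζ, v * yy h * v⁻¹, (yy h)⁻¹, ?_, ?_, ?_⟩
    · have hz := (es D).central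
      have hzi : ζ * ζ = 1 := by
        rcases hζ with rfl | rfl
        · simp
        · exact (es D).sq
      calc x * ζ = u * (1 * u * 1⁻¹)⁻¹ * (v * (yy h * v * (yy h)⁻¹)⁻¹) * (ζ * ζ) := by rw [← mul_assoc, ← e]
        _ = _ := by rw [hzi]; group
    · have : orderOf (v * yy h * v⁻¹) = orderOf (yy h) := MulEquiv.orderOf_eq (MulAut.conj v) (yy h)
      rwa [this]
    · rwa [orderOf_inv]
  by_cases h1 : c = 1
  · rw [h1]; exact Pr.one 6
  obtain ⟨ζ, hζ, hcz⟩ := key c hc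
  rcases hζ with rfl | rfl
  · rwa [mul_one] at hcz
  · have : ∃ y ∈ π.ker, c * y ≠ y * c := by
      by_contra hno
      push Not at hno
      rcases (es D).nd _ hc (fun y hy => hno y hy) with e1 | e1
      · exact h1 e1
      · exact h2 e1
    obtain ⟨y, hy, hne⟩ := this
    rcases (es D).comm c hc y hy with e | e
    · exact absurd e hne
    · refine Pr.of_conj (x := y⁻¹) ?_
      have e3 : y⁻¹ * c * y⁻¹⁻¹ = c * zz γ := by
        rw [inv_inv, mul_assoc, e]
        group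
      rwa [e3]

/-- a noncentral involution of `Q` -/
theorem pr_c0 : ∃ i : G, orderOf i = 2 ∧ Pr 6 i := by
  have h0 : cc γ 0 ∈ Q0 γ := h.cc_mem 0
  have hC : cc γ 0 ∈ Subgroup.centralizer ({γ 1} : Set G) :=
    Subgroup.mem_centralizer_singleton_iff.2 (D.large.comm_z _ h0)
  have hk : (⟨cc γ 0, hC⟩ : Subgroup.centralizer ({γ 1} : Set G)) ∈ π.ker := by rw [mem_ker D]; exact h0
  have h6 := mask_c h.data 0
  refine ⟨cc γ 0, ?_, (pr_Q h D hk ?_).of_sub⟩
  · have : Fact (Nat.Prime 2) := ⟨Nat.prime_two⟩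
    refine orderOf_eq_prime (by rw [pow_two]; exact h.data.cc 0) ?_
    intro e2
    rw [e2] at h6
    exact absurd (unique h.data h6 (mask_one h.data)) (by decide +kernel)
  · intro e1
    have e2 : cc γ 0 = γ 1 := congrArg Subtype.val e1
    rw [e2] at h6
    exact absurd (unique h.data h6 (mask_a h.data)) (by decide +kernel)

end

/-- an involution is a product of two elements of order prime to 6 -/
theorem pr_inv {i : Spor.Th} (hi : orderOf i = 2) : Pr 6 i := by
  obtain ⟨π, D⟩ := Cfsg.Agent.KFacts.Th.Main.exists_data Cfsg.Agent.KFacts.Th.Main.ctx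
  obtain ⟨j, hj, hp⟩ := pr_c0 Cfsg.Agent.KFacts.Th.Main.ctx D
  exact hp.of_isConj (MonsterX.ThOneClass.oneClass j i hj hi)

/-- elements of even order -/
theorem pr_even {g : Spor.Th} (hg : 2 ∣ orderOf g) : Pr 6 g := by
  have hfin : Finite Spor.Th := H174.Ore.Th.finite
  obtain ⟨k, hk⟩ : ∃ k, orderOf (g ^ k) = 2 := ⟨_, orderOf_pow_orderOf_div (orderOf_pos g).ne' hg⟩
  obtain ⟨t, ht⟩ := isConj_iff.1 (MonsterX.ThOneClass.oneClass (g ^ k) (gTh 1) hk MonsterX.ThOneClass.orderOf_a)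
  refine Pr.of_conj (x := t) ?_
  have hk' : (t * g * t⁻¹) ^ k = gTh 1 := by rw [← ht, conj_pow]
  generalize t * g * t⁻¹ = y at hk' ⊢
  have hyz : y * gTh 1 = gTh 1 * y := by rw [← hk']; exact ((Commute.refl y).pow_right k).eq
  have hyC : y ∈ Subgroup.centralizer ({gTh 1} : Set Spor.Th) := Subgroup.mem_centralizer_singleton_iff.2 hyz
  obtain ⟨π, D⟩ := Cfsg.Agent.KFacts.Th.Main.exists_data Cfsg.Agent.KFacts.Th.Main.ctx
  by_cases hker : (⟨y, hyC⟩ : Subgroup.centralizer ({gTh 1} : Set Spor.Th)) ∈ π.ker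
  · by_cases hz : (⟨y, hyC⟩ : Subgroup.centralizer ({gTh 1} : Set Spor.Th)) = zz gTh
    · have h1 : y = gTh 1 := congrArg Subtype.val hz
      rw [h1]
      exact pr_inv MonsterX.ThOneClass.orderOf_a
    · exact (pr_Q Cfsg.Agent.KFacts.Th.Main.ctx D hker hz).of_sub
  · apply pr_of_card
    refine le_trans ?_ (card_cent_le Cfsg.Agent.KFacts.Th.Main.ctx D hker)
    refine Nat.card_le_card_of_injective (fun c => ⟨⟨(c : Spor.Th), ?_⟩, ?_⟩) ?_
    · rw [Subgroup.mem_centralizer_singleton_iff, ← hk']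
      have h1 : Commute (c : Spor.Th) y := mem_centralizer_singleton_iff.1 c.2
      exact (h1.pow_right k).eq
    · exact mem_centralizer_singleton_iff.2 (Subtype.ext (mem_centralizer_singleton_iff.1 c.2))
    · intro a b hab
      have h1 : (a : Spor.Th) = b := by simpa using hab
      exact Subtype.ext h1

/-- elements of odd order which commute with an involution -/
theorem pr_odd {g i : Spor.Th} (hi : orderOf i = 2) (hgi : g * i = i * g) (hg : ¬ 2 ∣ orderOf g) : Pr 6 g := by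
  have hfin : Finite Spor.Th := H174.Ore.Th.finite
  obtain ⟨t, ht⟩ := isConj_iff.1 (MonsterX.ThOneClass.oneClass i (gTh 1) hi MonsterX.ThOneClass.orderOf_a)
  refine Pr.of_conj (x := t) ?_
  have hy : (t * g * t⁻¹) * gTh 1 = gTh 1 * (t * g * t⁻¹) := by
    rw [← ht]
    calc t * g * t⁻¹ * (t * i * t⁻¹) = t * (g * i) * t⁻¹ := by group
      _ = t * (i * g) * t⁻¹ := by rw [hgi]
      _ = _ := by group
  have ho : orderOf (t * g * t⁻¹) = orderOf g := MulEquiv.orderOf_eq (MulAut.conj t) g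
  rw [← ho] at hg
  generalize t * g * t⁻¹ = y at hy hg ⊢
  have h := Cfsg.Agent.KFacts.Th.Main.ctx
  obtain ⟨f, F⟩ := exists_epi h
  have hyC : y ∈ sub gTh isC := h.mem_C.2 hy
  obtain ⟨x, hx⟩ : ∃ x : sub gTh isC, (x : Spor.Th) = y := ⟨⟨y, hyC⟩, rfl⟩
  rw [← hx, Subgroup.orderOf_coe] at hg
  rw [← hx]
  -- the order of the image
  have hof : orderOf (f x) = orderOf x := by
    apply Nat.dvd_antisymm (orderOf_map_dvd f x)
    apply orderOf_dvd_of_pow_eq_one
    have h1 : x ^ orderOf (f x) ∈ f.ker := by rw [MonoidHom.mem_ker, map_pow, pow_orderOf_eq_one]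
    obtain ⟨n, hn⟩ := (ker_two h F) ⟨_, h1⟩
    have h2 : (x ^ orderOf (f x)) ^ 2 ^ n = 1 := congrArg Subtype.val hn
    have h3 := orderOf_dvd_of_pow_eq_one h2
    have h4 : orderOf (x ^ orderOf (f x)) ∣ orderOf x := orderOf_pow_dvd _
    have h5 : (orderOf x).Coprime (2 ^ n) :=
      Nat.Coprime.pow_right n ((Nat.Prime.coprime_iff_not_dvd Nat.prime_two).2 hg).symm
    have h6 := Nat.Coprime.eq_one_of_dvd (Nat.Coprime.of_dvd_left h4 h5) h3
    exact orderOf_eq_one_iff.1 h6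
  by_cases hf1 : f x = 1
  · rw [hf1, orderOf_one] at hof
    rw [orderOf_eq_one_iff.1 hof.symm]
    exact Pr.one 6
  obtain ⟨l, hl, ht⟩ := exists_type (f x) hf1
  have hol : orderOf x = Multiset.lcm (l : Multiset ℕ) := by
    rw [← hof, ← Subgroup.orderOf_coe, ← Equiv.Perm.lcm_cycleType, ht]
  simp only [Cfsg.Agent.H683.Ore.A9.types, List.mem_cons, List.not_mem_nil, or_false] at hl
  rcases hl with rfl | rfl | rfl | rfl | rfl | rfl | rfl | rfl | rfl | rfl | rfl | rfl | rfl | rfl | rfl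
  · exact absurd (hol ▸ (by decide : 2 ∣ Multiset.lcm (([2, 2] : List ℕ) : Multiset ℕ))) hg
  · exact absurd (hol ▸ (by decide : 2 ∣ Multiset.lcm (([2, 2, 2, 2] : List ℕ) : Multiset ℕ))) hg
  · exact pr_three h F (hol.trans (by decide))
  · exact absurd (hol ▸ (by decide : 2 ∣ Multiset.lcm (([3, 2, 2] : List ℕ) : Multiset ℕ))) hg
  · exact pr_three h F (hol.trans (by decide))
  · exact pr_three h F (hol.trans (by decide))
  · exact absurd (hol ▸ (by decide : 2 ∣ Multiset.lcm (([4, 2] : List ℕ) : Multiset ℕ))) hg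
  · exact absurd (hol ▸ (by decide : 2 ∣ Multiset.lcm (([4, 3, 2] : List ℕ) : Multiset ℕ))) hg
  · exact absurd (hol ▸ (by decide : 2 ∣ Multiset.lcm (([4, 4] : List ℕ) : Multiset ℕ))) hg
  · apply Pr.of_coprime
    rw [Subgroup.orderOf_coe, hol]
    decide
  · exact absurd (hol ▸ (by decide : 2 ∣ Multiset.lcm (([5, 2, 2] : List ℕ) : Multiset ℕ))) hg
  · -- order 15
    have h15 : orderOf (x : Spor.Th) = 15 := by
      rw [Subgroup.orderOf_coe, hol]
      decide
    have h5 : orderOf ((x : Spor.Th) ^ 3) = 5 := by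
      rw [orderOf_pow' _ (by norm_num), h15]
      norm_num
    obtain ⟨_, x', y', z', a', D⟩ := H49.ThFive.exists_dat
    obtain ⟨w, hw⟩ := D.all h5
    apply pr_of_card
    have h1 : Nat.card (centralizer ({(x : Spor.Th)} : Set Spor.Th)) ≤
        Nat.card (centralizer ({(x : Spor.Th) ^ 3} : Set Spor.Th)) := by
      apply Subgroup.card_le_of_le
      intro c hc
      have h2 : Commute c (x : Spor.Th) := mem_centralizer_singleton_iff.1 hc
      exact mem_centralizer_singleton_iff.2 (h2.pow_right 3).eq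
    have h2 : Nat.card (centralizer ({(x : Spor.Th) ^ 3} : Set Spor.Th)) = Nat.card (centralizer ({z'} : Set Spor.Th)) :=
      (Cfsg.Agent.Blocks.SylowIn.card_centralizer_of_isConj (isConj_iff.2 ⟨w, hw⟩)).symm
    rw [h2, D.card_C] at h1
    omega
  · exact absurd (hol ▸ (by decide : 2 ∣ Multiset.lcm (([6, 2] : List ℕ) : Multiset ℕ))) hg
  · apply Pr.of_coprime
    rw [Subgroup.orderOf_coe, hol]
    decide
  · exact pr_nine h F (hol.trans (by decide)) ht

/-- **(I)** -/
theorem six_th' : All 6 Spor.Th := by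
  intro g
  have := H174.Ore.Th.finite
  by_cases hg : g = 1
  · rw [hg]; exact Pr.one 6
  by_cases hodd : Odd (Nat.card (centralizer ({g} : Set Spor.Th)))
  · exact pr_of_card (by have := ThRow.bound hg hodd; omega)
  rw [Nat.not_odd_iff_even, even_iff_two_dvd] at hodd
  by_cases h2 : 2 ∣ orderOf g
  · exact pr_even h2
  · obtain ⟨i, hiF, hi⟩ := H502.TO.exists_of_dvd Nat.prime_two hodd
    exact pr_odd hi (mem_centralizer_singleton_iff.1 hiF).symm h2

theorem pw_th' : Pw Spor.Th := ⟨six_th', fun _ hp h5 => big_th' hp h5⟩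

end Cfsg.Agent.H980.Ore.PwTh

namespace Cfsg.Agent.H980.Ore

open Cfsg

universe u

/-- **S2465 for the Thompson group.** -/
theorem pw_th {S : Type u} [Group S] (h : Spor.IsoTh S) : Cfsg.Agent.H78.Pw.Pw S := by
  obtain ⟨e⟩ := h
  exact PwTh.pw_th'.congr e.symm

/-- products of two squares (S2453) -/
theorem sq_th {S : Type u} [Group S] (h : Spor.IsoTh S) : Cfsg.Agent.H134.Sq.AllP 2 S := fun g =>
  (pw_th h).pow (Or.inl Nat.prime_two.isPrimePow) g

end Cfsg.Agent.H980.Ore
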