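import Cfsg.Agent.H980.Ore.ThRow
import Cfsg.Agent.H174.Ore.DegTh

/-!
# Ore for the Thompson group (helper980)
-/

set_option autoImplicit false

namespace Cfsg.Agent.H980.Ore

open Cfsg Cfsg.Agent.H777.Ore

universe u

/-- **Every element of the Thompson group is a commutator.** -/
theorem ore_th {S : Type u} [Group S] (h : Spor.IsoTh S) : AllC S :=
  ThRow.ore_of (fun g hg => by
    have h1 := Cfsg.Agent.H174.Ore.Th.t1_th (S := Spor.Th) ⟨MulEquiv.refl _⟩
    exact h1 g (hg.trans (by norm_num))) h

end Cfsg.Agent.H980.Ore
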