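import Cfsg.Agent.H6.ORE.Extra
import Cfsg.Agent.H777.Ore.Base
import Cfsg.Agent.H683.Ore.A9
import Cfsg.Agent.KFacts.Th.Main
import Cfsg.Agent.MonsterX.ThOneClass

/-!
# Ore for the Thompson group, local part (helper980)

Every element of the centralizer `2^(1+8).A9` of the involution `γ 1` is a commutator.
-/

set_option autoImplicit false
set_option maxRecDepth 100000

namespace Cfsg.Agent.H980.Ore.ThLoc

open Cfsg.Agent.Th.Base Cfsg.Agent.Th.Word Cfsg.Agent.Th.RelWords Cfsg.Agent.Th.PermTab
  Cfsg.Agent.Th.KOracle Cfsg.Agent.Th.KPerm Cfsg.Agent.Th.NineAct Cfsg.Agent.Th.CStruct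
  Cfsg.Agent.Th.COracleDef Cfsg.Agent.Th.IndexUpper
open Cfsg.Agent.KFacts.Th.Mask Cfsg.Agent.KFacts.Th.Struct
open Cfsg.Agent.H777.Ore

universe u

/-! ## masks and products -/

section mask

variable {G : Type u} [Group G] {a : G} {c : Fin 9 → G}

/-- `a ^ e` -/
def pa (a : G) (e : Bool) : G := if e then a else 1

/-- the parity of the bits of `m` in the list `l` -/
def parL (m : ℕ) (l : List ℕ) : Bool := l.foldr (fun j r => (m.testBit j) ^^ r) false

theorem comm_prod (ha : ∀ i, a * c i = c i * a) (haa : a * a = 1) {x : G} {m : ℕ} (hax : a * x = x * a)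
    (hm : HM a c x m) : ∀ l : List (Fin 9),
    x * (l.map c).prod = pa a (parL m (l.map fun i : Fin 9 => i.val)) * ((l.map c).prod * x)
  | [] => by simp [pa, parL]
  | i :: l => by
    have ih := comm_prod ha haa hax hm l
    have h1 := hm.2 i
    rw [List.map_cons, List.prod_cons, List.map_cons]
    have e1 : parL m (i.val :: l.map fun i : Fin 9 => i.val) = ((m.testBit i.val) ^^ parL m (l.map fun i : Fin 9 => i.val)) := rfl
    rw [e1]
    set P := (l.map c).prod with hP
    set e := parL m (l.map fun i : Fin 9 => i.val) with he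
    have hpe : ∀ y : G, a * y = y * a → pa a e * y = y * pa a e := by
      intro y hy
      unfold pa
      split_ifs
      · exact hy
      · simp
    cases hb : m.testBit (i : ℕ) with
    | false =>
      have h2 := h1.1 hb
      calc x * (c i * P) = (x * c i) * P := by group
        _ = c i * (x * P) := by rw [h2]; group
        _ = c i * (pa a e * (P * x)) := by rw [ih]
        _ = (c i * pa a e) * (P * x) := by group
        _ = pa a e * (c i * P * x) := by rw [← hpe _ (ha i)]; group
        _ = pa a (false ^^ e) * (c i * P * x) := by rw [Bool.false_xor]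
    | true =>
      have h2 := h1.2 hb
      have h3 : pa a (true ^^ e) = a * pa a e := by
        unfold pa
        cases e <;> simp [haa]
      rw [h3]
      calc x * (c i * P) = (x * c i) * P := by group
        _ = a * (c i * (x * P)) := by rw [h2]; group
        _ = a * (c i * (pa a e * (P * x))) := by rw [ih]
        _ = a * ((c i * pa a e) * (P * x)) := by group
        _ = a * pa a e * (c i * P * x) := by rw [← hpe _ (ha i)]; group

theorem conj_mask (ha : ∀ i, a * c i = c i * a) (haa : a * a = 1) {x g : G} {m : ℕ}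
    (hax : a * x = x * a) (hag : g⁻¹ * a * g = a) (hm : HM a c x m) {i : Fin 9} {l : List (Fin 9)} {e : Bool}
    (hc : g * c i * g⁻¹ = (l.map c).prod * pa a e) :
    (parL m (l.map fun i : Fin 9 => i.val) = false → (g⁻¹ * x * g) * c i = c i * (g⁻¹ * x * g)) ∧
    (parL m (l.map fun i : Fin 9 => i.val) = true → (g⁻¹ * x * g) * c i = a * (c i * (g⁻¹ * x * g))) := by
  have h1 := comm_prod ha haa hax hm l
  have hpe : ∀ (e : Bool) (y : G), a * y = y * a → pa a e * y = y * pa a e := by
    intro e y hy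
    unfold pa
    split_ifs
    · exact hy
    · simp
  set P := (l.map c).prod with hP
  set r := parL m (l.map fun i : Fin 9 => i.val) with hr
  have h2 : x * (g * c i * g⁻¹) = pa a r * ((g * c i * g⁻¹) * x) := by
    rw [hc]
    calc x * (P * pa a e) = (x * P) * pa a e := by group
      _ = pa a r * (P * (x * pa a e)) := by rw [h1]; group
      _ = pa a r * (P * pa a e * x) := by rw [← hpe e x hax]; group
  have h3 : (g⁻¹ * x * g) * c i = (g⁻¹ * pa a r * g) * (c i * (g⁻¹ * x * g)) := by
    calc (g⁻¹ * x * g) * c i = g⁻¹ * (x * (g * c i * g⁻¹)) * g := by group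
      _ = _ := by rw [h2]; group
  constructor
  · intro h
    rw [h] at h3
    rw [h3]
    simp [pa]
  · intro h
    rw [h] at h3
    rw [h3]
    have : g⁻¹ * pa a true * g = a := by simpa [pa] using hag
    rw [this]

end mask

/-! ## an element of order five -/

/-- the word of an element of order five -/
def wy : List ℕ := [4, 7, 10, 4, 10]

/-- `wy cᵢ wy⁻¹` as a product of the `cⱼ` -/
def tab : List (List ℕ) := [[1,2,5,6],[2,3,5,6],[0,2,5,6],[0,1,3,8],[4,6,7,8],[0,1,3,4],[2,4,7,8],[4,5,7,8],[0,1,3,7]]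

/-- signs -/
def eps : List Bool := [false,false,true,false,true,false,false,true,false]

def S (i : ℕ) : List ℕ := tab.getD i []

theorem S_check : allB 9 (fun i => corc (wy ++ (wc i ++ (iw wy ++ (iw ((S i).flatMap wc) ++
    (bif eps.getD i false then [1] else [])))))) = true := by decide +kernel

theorem S_lt : allB 9 (fun i => allG (fun j => Nat.ble j 8) (S i)) = true := by decide +kernel

theorem wy_isC : ∀ x ∈ wy, isC x = true := by decide

theorem fix_check : ∀ m < 512, (∀ i < 9, parL m (S i) = m.testBit i) → m = 0 := by decide +kernel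

theorem wy5 : corc (wy ++ (wy ++ (wy ++ (wy ++ wy)))) = true := by decide +kernel

section ctx

variable {G : Type u} [Group G] {γ : ℕ → G} (h : Ctx γ)
include h

theorem corc1 {w : List ℕ} (hw : corc w = true) : ev γ w = 1 :=
  Cfsg.Agent.Th.COracleSound.corc_sound h.inv h.C hw

/-- the element of order five -/
theorem y_pow : (ev γ wy) ^ 5 = 1 := by
  have h1 := corc1 h wy5
  simp only [ev_append] at h1
  rw [← h1]
  simp only [pow_succ, pow_zero, one_mul, mul_assoc]

omit h in
theorem y_mem : ev γ wy ∈ sub γ isC := ev_mem_sub wy_isC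

theorem S_rel (i : Fin 9) : ∃ l : List (Fin 9), (l.map fun i : Fin 9 => i.val) = S i ∧ ∃ e : Bool,
    ev γ wy * cc γ i * (ev γ wy)⁻¹ = (l.map (cc γ)).prod * pa (γ 1) e := by
  have h1 := corc1 h ((allB_iff _ _).mp S_check i i.2)
  have h2 := (allB_iff _ _).mp S_lt i i.2
  have h3 : ∀ j ∈ S i, j < 9 := fun j hj => by
    have := (allG_iff _ _).mp h2 j hj
    have := Nat.le_of_ble_eq_true this
    omega
  refine ⟨(S i).attach.map fun j => ⟨j.1, h3 j.1 j.2⟩, ?_, eps.getD i false, ?_⟩
  · rw [List.map_map]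
    simp [Function.comp_def]
  · have h4 : (((S i).attach.map fun j => (⟨j.1, h3 j.1 j.2⟩ : Fin 9)).map (cc γ)).prod = ev γ ((S i).flatMap wc) := by
      have key : ∀ l : List ℕ, ev γ (l.flatMap wc) = (l.map fun j => ev γ (wc j)).prod := by
        intro l
        induction l with
        | nil => rfl
        | cons x l ih => rw [List.flatMap_cons, ev_append, ih, List.map_cons, List.prod_cons]
      rw [key, List.map_map]
      congr 1
      rw [show (cc γ ∘ fun j : {x // x ∈ S i} => (⟨j.1, h3 j.1 j.2⟩ : Fin 9)) = fun j => ev γ (wc j.1) from rfl]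
      exact List.attach_map_val (f := fun j => ev γ (wc j))
    rw [h4]
    rw [ev_append, ev_append, ev_append, ev_append, ev_iw h.inv, ev_iw h.inv] at h1
    have h5 : ev γ (bif eps.getD i false then [1] else []) = pa (γ 1) (eps.getD i false) := by
      cases eps.getD i false <;> simp [pa]
    rw [h5] at h1
    have h6 : pa (γ 1) (eps.getD i false) * pa (γ 1) (eps.getD i false) = 1 := by
      unfold pa; split_ifs
      · exact h.aa
      · simp
    have h7 : ∀ y ∈ Q0 γ, pa (γ 1) (eps.getD i false) * y = y * pa (γ 1) (eps.getD i false) := by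
      intro y hy
      unfold pa; split_ifs
      · exact h.Q_comm hy
      · simp
    have h8 : ev γ wy * cc γ i * (ev γ wy)⁻¹ = pa (γ 1) (eps.getD i false) * ev γ ((S i).flatMap wc) := by
      have e1 : ev γ wy * (ev γ (wc i) * ((ev γ wy)⁻¹ * ((ev γ ((S i).flatMap wc))⁻¹ * pa (γ 1) (eps.getD i false)))) =
        (ev γ wy * cc γ i * (ev γ wy)⁻¹) * ((ev γ ((S i).flatMap wc))⁻¹ * pa (γ 1) (eps.getD i false)) := by
        show _ = (ev γ wy * ev γ (wc i) * (ev γ wy)⁻¹) * _
        group
      rw [e1] at h1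
      rw [eq_inv_of_mul_eq_one_left h1, mul_inv_rev, inv_inv, inv_eq_of_mul_eq_one_left h6]
    rw [h8]
    apply h7
    rw [← h4]
    apply Subgroup.list_prod_mem
    intro y hy
    obtain ⟨j, -, rfl⟩ := List.mem_map.1 hy
    exact h.cc_mem j

/-- the element of order five is fixed point free on `Q/⟨a⟩` -/
theorem y_fpf {x : G} (hx : x ∈ Q0 γ)
    (hf : (ev γ wy)⁻¹ * x * ev γ wy = x ∨ (ev γ wy)⁻¹ * x * ev γ wy = x * γ 1) : x = 1 ∨ x = γ 1 := by
  obtain ⟨m, hm⟩ := exists_mask h.data hx
  have hm' : HM (γ 1) (cc γ) ((ev γ wy)⁻¹ * x * ev γ wy) m := by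
    rcases hf with e | e
    · rw [e]; exact hm
    · rw [e]
      have := mul h.data hx hm (mask_a h.data)
      rwa [Nat.xor_zero] at this
  have h0 : m = 0 := by
    apply fix_check m hm.1
    intro i hi
    obtain ⟨l, hl, e, he⟩ := S_rel h ⟨i, hi⟩
    have hac : ∀ i, γ 1 * cc γ i = cc γ i * γ 1 := fun i => h.Q_comm (h.cc_mem i)
    obtain ⟨c1, c2⟩ := conj_mask hac h.aa (h.Q_comm hx) (h.a_conj y_mem) hm he
    rw [hl] at c1 c2
    have h4 := hm'.2 ⟨i, hi⟩
    cases hb : m.testBit i with
    | false =>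
      cases hp : parL m (S i) with
      | false => rfl
      | true => exact (not_both h.data _ _ (h4.1 hb) (c2 hp)).elim
    | true =>
      cases hp : parL m (S i) with
      | false => exact (not_both h.data _ _ (c1 hp) (h4.2 hb)).elim
      | true => rfl
  rw [h0] at hm
  exact eq_of_zero h.data h.cardQ hx hm

end ctx

/-! ## Sylow's theorem for a prime dividing the order once -/

/-- two elements of prime order `p`, `p ∥ |L|`: one is a power of a conjugate of the other -/
theorem exists_conj_pow {L : Type*} [Group L] [Finite L] {p : ℕ} [hp : Fact p.Prime] {x y : L}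
    (hL : (Nat.card L).factorization p = 1) (hx : orderOf x = p) (hy : orderOf y = p) :
    ∃ (g : L) (k : ℕ), y = (g * x * g⁻¹) ^ k := by
  have hc : ∀ z : L, orderOf z = p → Nat.card (Subgroup.zpowers z) = p ^ (Nat.card L).factorization p := by
    intro z hz
    rw [Nat.card_zpowers, hz, hL, pow_one]
  let P : Sylow p L := Sylow.ofCard (Subgroup.zpowers x) (hc x hx)
  let R : Sylow p L := Sylow.ofCard (Subgroup.zpowers y) (hc y hy)
  obtain ⟨g, hg⟩ := MulAction.exists_smul_eq L P R
  have h1 : y ∈ (R : Subgroup L) := Subgroup.mem_zpowers y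
  rw [← hg, Sylow.coe_subgroup_smul] at h1
  rw [Subgroup.mem_smul_pointwise_iff_exists] at h1
  obtain ⟨s, hs, e⟩ := h1
  have hs' : s ∈ Subgroup.zpowers x := hs
  rw [← mem_powers_iff_mem_zpowers] at hs'
  obtain ⟨k, rfl⟩ := hs'
  refine ⟨g, k, ?_⟩
  rw [← e, MulAut.smul_def, MulAut.conj_apply, ← conj_pow]

section main

variable {G : Type u} [Group G] {γ : ℕ → G} (h : Ctx γ)
  {π : Subgroup.centralizer ({γ 1} : Set G) →* alternatingGroup (Fin 9)}
  (D : Cfsg.Agent.KFacts.LargeSheet.Data (Q0 γ) (γ 1) (alternatingGroup (Fin 9)) π)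

/-- the central involution of the centralizer -/
abbrev zz (γ : ℕ → G) : Subgroup.centralizer ({γ 1} : Set G) := Cfsg.Agent.KFacts.LargeSheet.Data.zC (γ 1)

include D in
theorem mem_ker {x : Subgroup.centralizer ({γ 1} : Set G)} : x ∈ π.ker ↔ (x : G) ∈ Q0 γ := by
  rw [MonoidHom.mem_ker, D.ker]

include D in
theorem es : Cfsg.Agent.H6.ORE.ES π.ker (zz γ) where
  normal := inferInstance
  mem := by rw [mem_ker D]; exact D.large.z_mem
  ne := fun e => D.large.z_ne (congrArg Subtype.val e)
  sq := Subtype.ext D.large.z_sq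
  central := fun g => Subtype.ext (Subgroup.mem_centralizer_singleton_iff.1 g.2)
  comm := fun x hx y hy => by
    rw [mem_ker D] at hx hy
    rcases D.large.comm _ hx _ hy with e | e
    · exact Or.inl (Subtype.ext e)
    · exact Or.inr (Subtype.ext e)
  pow := fun x hx => by
    rw [mem_ker D] at hx
    rcases D.large.sq _ hx with e | e
    · exact Or.inl (Subtype.ext e)
    · exact Or.inr (Subtype.ext e)
  nd := fun x hx hxy => by
    rw [mem_ker D] at hx
    have key : ∀ y ∈ Q0 γ, (x : G) * y = y * x := by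
      intro y hy
      have hyC : y ∈ Subgroup.centralizer ({γ 1} : Set G) :=
        Subgroup.mem_centralizer_singleton_iff.2 (D.large.comm_z y hy)
      exact congrArg Subtype.val (hxy ⟨y, hyC⟩ (by rw [mem_ker D]; exact hy))
    rcases D.large.cent _ hx key with e | e
    · exact Or.inl (Subtype.ext e)
    · exact Or.inr (Subtype.ext e)

include h in
theorem fin' : Finite G := h.fin

/-- the element of order five in the centralizer -/
def yy (h : Ctx γ) : Subgroup.centralizer ({γ 1} : Set G) :=
  ⟨ev γ wy, by rw [h.cent]; exact y_mem⟩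

theorem yy_pow : yy h ^ 5 = 1 := Subtype.ext (y_pow h)

include D in
theorem yy_fpf {x : Subgroup.centralizer ({γ 1} : Set G)} (hx : x ∈ π.ker)
    (hf : yy h * x * (yy h)⁻¹ = x ∨ yy h * x * (yy h)⁻¹ = x * zz γ) : x = 1 ∨ x = zz γ := by
  rw [mem_ker D] at hx
  have hz : ∀ g : Subgroup.centralizer ({γ 1} : Set G), g * zz γ = zz γ * g := (es D).central
  have hzz : zz γ * zz γ = 1 := (es D).sq
  have h1 : (yy h)⁻¹ * x * yy h = x ∨ (yy h)⁻¹ * x * yy h = x * zz γ := by
    rcases hf with e | e
    · left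
      calc (yy h)⁻¹ * x * yy h = (yy h)⁻¹ * (yy h * x * (yy h)⁻¹) * yy h := by rw [e]
        _ = x := by group
    · right
      have e2 : x = yy h * (x) * (yy h)⁻¹ * zz γ := by
        rw [e, mul_assoc, hzz, mul_one]
      calc (yy h)⁻¹ * x * yy h = (yy h)⁻¹ * (yy h * x * (yy h)⁻¹ * zz γ) * yy h := by rw [← e2]
        _ = x * ((yy h)⁻¹ * (zz γ * yy h)) := by group
        _ = x * zz γ := by rw [← hz]; group
  rcases y_fpf h hx (by
    rcases h1 with e | e
    · exact Or.inl (congrArg Subtype.val e)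
    · exact Or.inr (congrArg Subtype.val e)) with e | e
  · exact Or.inl (Subtype.ext e)
  · exact Or.inr (Subtype.ext e)

/-- fixing a coset of `⟨z⟩` -/
def Fx (γ : ℕ → G) (x g : Subgroup.centralizer ({γ 1} : Set G)) : Prop :=
  g * x * g⁻¹ = x ∨ g * x * g⁻¹ = x * zz γ

include D in
theorem Fx.mul {x g k : Subgroup.centralizer ({γ 1} : Set G)} (h1 : Fx γ x g) (h2 : Fx γ x k) : Fx γ x (g * k) := by
  have hz : ∀ g : Subgroup.centralizer ({γ 1} : Set G), g * zz γ = zz γ * g := (es D).central
  have hzz : zz γ * zz γ = 1 := (es D).sq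
  have e0 : g * k * x * (g * k)⁻¹ = g * (k * x * k⁻¹) * g⁻¹ := by group
  unfold Fx at *
  rw [e0]
  rcases h2 with e | e <;> rw [e]
  · exact h1
  · have e1 : g * (x * zz γ) * g⁻¹ = (g * x * g⁻¹) * zz γ := by
      calc g * (x * zz γ) * g⁻¹ = g * x * (zz γ * g⁻¹) := by group
        _ = _ := by rw [← hz]; group
    rw [e1]
    rcases h1 with e | e <;> rw [e]
    · exact Or.inr rfl
    · left; rw [mul_assoc, hzz, mul_one]

include D in
theorem Fx.pow {x g : Subgroup.centralizer ({γ 1} : Set G)} (h1 : Fx γ x g) : ∀ n : ℕ, Fx γ x (g ^ n)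
  | 0 => by left; simp
  | n + 1 => by rw [pow_succ]; exact Fx.mul D (Fx.pow h1 n) h1

include D in
theorem Fx.of_ker {x q : Subgroup.centralizer ({γ 1} : Set G)} (hx : x ∈ π.ker) (hq : q ∈ π.ker) : Fx γ x q := by
  rcases (es D).comm q hq x hx with e | e
  · left; rw [e]; group
  · right
    rw [e]
    calc x * q * zz γ * q⁻¹ = x * (q * zz γ * q⁻¹) := by group
      _ = _ := by rw [(es D).central q]; group

include D in
theorem Fx.conj {x g k : Subgroup.centralizer ({γ 1} : Set G)} (h1 : Fx γ x (k * g * k⁻¹)) : Fx γ (k⁻¹ * x * k) g := by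
  have hz : ∀ g : Subgroup.centralizer ({γ 1} : Set G), g * zz γ = zz γ * g := (es D).central
  have e0 : g * (k⁻¹ * x * k) * g⁻¹ = k⁻¹ * ((k * g * k⁻¹) * x * (k * g * k⁻¹)⁻¹) * k := by group
  unfold Fx at *
  rw [e0]
  rcases h1 with e | e <;> rw [e]
  · exact Or.inl rfl
  · right
    calc k⁻¹ * (x * zz γ) * k = k⁻¹ * x * (zz γ * k) := by group
      _ = _ := by rw [← hz]; group

include D in
theorem yy_ne : π (yy h) ≠ 1 := by
  intro e
  have hy : yy h ∈ π.ker := e
  have h0 : cc γ 0 ∈ Q0 γ := h.cc_mem 0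
  have hC : cc γ 0 ∈ Subgroup.centralizer ({γ 1} : Set G) :=
    Subgroup.mem_centralizer_singleton_iff.2 (D.large.comm_z _ h0)
  have hk : (⟨cc γ 0, hC⟩ : Subgroup.centralizer ({γ 1} : Set G)) ∈ π.ker := by rw [mem_ker D]; exact h0
  have h6 := mask_c h.data 0
  rcases yy_fpf h D hk (Fx.of_ker D hk hy) with e1 | e1
  · have e2 : cc γ 0 = 1 := congrArg Subtype.val e1
    rw [e2] at h6
    exact absurd (unique h.data h6 (mask_one h.data)) (by decide +kernel)
  · have e2 : cc γ 0 = γ 1 := congrArg Subtype.val e1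
    rw [e2] at h6
    exact absurd (unique h.data h6 (mask_a h.data)) (by decide +kernel)

include D in
theorem order_yy : orderOf (π (yy h)) = 5 := by
  have : Fact (Nat.Prime 5) := ⟨by norm_num⟩
  refine orderOf_eq_prime ?_ (yy_ne h D)
  rw [← map_pow, yy_pow, map_one]

theorem card_fac : (Nat.card (alternatingGroup (Fin 9))).factorization 5 = 1 := by
  have h1 : Nat.card (alternatingGroup (Fin 9)) = 5 * 36288 := by
    rw [nat_card_alternatingGroup, Nat.card_eq_fintype_card, Fintype.card_fin]
    decide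
  rw [h1, Nat.factorization_mul (by norm_num) (by norm_num), Finsupp.add_apply,
    Nat.Prime.factorization_self (by norm_num), Nat.factorization_eq_zero_of_not_dvd (by norm_num)]

include h D in
/-- every element whose image has order divisible by five is fixed point free -/
theorem fpf_of_dvd {a : Subgroup.centralizer ({γ 1} : Set G)} (ha : 5 ∣ orderOf (π a))
    {x : Subgroup.centralizer ({γ 1} : Set G)} (hx : x ∈ π.ker) (hf : Fx γ x a) : x = 1 ∨ x = zz γ := by
  have hfin := h.fin
  have : Fact (Nat.Prime 5) := ⟨by norm_num⟩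
  obtain ⟨m, hm⟩ := ha
  have hm0 : orderOf (π a) ≠ 0 := (orderOf_pos _).ne'
  have hr : orderOf (π a ^ m) = 5 := by
    rw [orderOf_pow' _ (fun h0 => hm0 (by rw [hm, h0])), hm, Nat.gcd_eq_right (Dvd.intro_left 5 rfl)]
    exact Nat.mul_div_cancel _ (Nat.pos_of_ne_zero fun h0 => hm0 (by rw [hm, h0]))
  obtain ⟨g, k, hgk⟩ := exists_conj_pow card_fac hr (order_yy h D)
  obtain ⟨t, rfl⟩ := D.surj g
  -- `y = (t a^m t⁻¹)^k q`
  have h1 : yy h * ((t * a ^ m * t⁻¹) ^ k)⁻¹ ∈ π.ker := by
    rw [MonoidHom.mem_ker, map_mul, map_inv, map_pow, map_mul, map_mul, map_inv, map_pow, ← hgk, mul_inv_cancel]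
  have hx' : t * x * t⁻¹ ∈ π.ker := (inferInstance : π.ker.Normal).conj_mem x hx t
  have h2 : Fx γ (t * x * t⁻¹) (t * a ^ m * t⁻¹) := by
    have h3 : Fx γ (t⁻¹⁻¹ * x * t⁻¹) (t * a ^ m * t⁻¹) := by
      apply Fx.conj D
      have e : t⁻¹ * (t * a ^ m * t⁻¹) * t⁻¹⁻¹ = a ^ m := by group
      rw [e]
      exact Fx.pow D hf m
    rwa [inv_inv] at h3
  have h4 : Fx γ (t * x * t⁻¹) (yy h) := by
    have h5 := Fx.mul D (Fx.of_ker D hx' h1) (Fx.pow D h2 k)
    rwa [inv_mul_cancel_right] at h5
  rcases yy_fpf h D hx' h4 with e | e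
  · left
    calc x = t⁻¹ * (t * x * t⁻¹) * t := by group
      _ = 1 := by rw [e]; group
  · right
    calc x = t⁻¹ * (t * x * t⁻¹) * t := by group
      _ = t⁻¹ * (zz γ * t) := by rw [e]; group
      _ = zz γ := by rw [← (es D).central]; group

include h D in
/-- `C/Q` acts faithfully on `Q/⟨z⟩` -/
theorem faithful {c : Subgroup.centralizer ({γ 1} : Set G)} (hc : ∀ x ∈ π.ker, Fx γ x c) : c ∈ π.ker := by
  by_contra hno
  let N : Subgroup (Subgroup.centralizer ({γ 1} : Set G)) :=
    { carrier := {g | ∀ x ∈ π.ker, Fx γ x g}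
      mul_mem' := fun ha hb x hx => Fx.mul D (ha x hx) (hb x hx)
      one_mem' := fun x _ => by left; simp
      inv_mem' := fun {g} hg x hx => by
        have h1 := hg (g⁻¹ * x * g) (by
          have := (inferInstance : π.ker.Normal).conj_mem x hx g⁻¹
          rwa [inv_inv] at this)
        have hz := (es D).central
        rcases h1 with e | e
        · left
          have : x = g⁻¹ * x * g := by
            calc x = g * (g⁻¹ * x * g) * g⁻¹ := by group
              _ = _ := e
          rw [inv_inv]; exact this.symm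
        · right
          have : x = g⁻¹ * x * g * zz γ := by
            calc x = g * (g⁻¹ * x * g) * g⁻¹ := by group
              _ = _ := e
          rw [inv_inv]
          calc g⁻¹ * x * g = g⁻¹ * x * g * zz γ * zz γ := by rw [mul_assoc _ (zz γ), (es D).sq, mul_one]
            _ = x * zz γ := by rw [← this] }
  have hN : N.Normal := by
    refine ⟨fun n hn g x hx => ?_⟩
    have h1 := hn (g⁻¹ * x * g) (by
      have := (inferInstance : π.ker.Normal).conj_mem x hx g⁻¹
      rwa [inv_inv] at this)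
    have h2 : Fx γ (g⁻¹⁻¹ * (g⁻¹ * x * g) * g⁻¹) (g * n * g⁻¹) := by
      apply Fx.conj D
      have e : g⁻¹ * (g * n * g⁻¹) * g⁻¹⁻¹ = n := by group
      rw [e]; exact h1
    have e : g⁻¹⁻¹ * (g⁻¹ * x * g) * g⁻¹ = x := by group
    rwa [e] at h2
  have hs : IsSimpleGroup (alternatingGroup (Fin 9)) := alternatingGroup.isSimpleGroup (by simp)
  rcases (hN.map π D.surj).eq_bot_or_eq_top with h1 | h1
  · apply hno
    have h2 : π c ∈ N.map π := ⟨c, hc, rfl⟩
    rw [h1, Subgroup.mem_bot] at h2
    exact h2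
  · have h2 : π (yy h) ∈ N.map π := by rw [h1]; exact Subgroup.mem_top _
    obtain ⟨n, hn, e⟩ := h2
    have h3 : n⁻¹ * yy h ∈ π.ker := by rw [MonoidHom.mem_ker, map_mul, map_inv, e, inv_mul_cancel]
    have h4 : ∀ x ∈ π.ker, Fx γ x (yy h) := fun x hx => by
      have h5 := Fx.mul D (hn x hx) (Fx.of_ker D hx h3)
      rwa [mul_inv_cancel_left] at h5
    have h0 : cc γ 0 ∈ Q0 γ := h.cc_mem 0
    have hC : cc γ 0 ∈ Subgroup.centralizer ({γ 1} : Set G) :=
      Subgroup.mem_centralizer_singleton_iff.2 (D.large.comm_z _ h0)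
    have hk : (⟨cc γ 0, hC⟩ : Subgroup.centralizer ({γ 1} : Set G)) ∈ π.ker := by rw [mem_ker D]; exact h0
    have h6 := mask_c h.data 0
    rcases yy_fpf h D hk (h4 _ hk) with e1 | e1
    · have e2 : cc γ 0 = 1 := congrArg Subtype.val e1
      rw [e2] at h6
      exact absurd (unique h.data h6 (mask_one h.data)) (by decide +kernel)
    · have e2 : cc γ 0 = γ 1 := congrArg Subtype.val e1
      rw [e2] at h6
      exact absurd (unique h.data h6 (mask_a h.data)) (by decide +kernel)

include h D in
/-- **every element of the centralizer is a commutator** -/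
theorem isC_centralizer (c : Subgroup.centralizer ({γ 1} : Set G)) : IsC c := by
  have hfin := h.fin
  by_cases hc : c ∈ π.ker
  · -- elements of `Q`
    have key : ∀ x ∈ π.ker, ∃ ζ : Subgroup.centralizer ({γ 1} : Set G), (ζ = 1 ∨ ζ = zz γ) ∧ IsC (x * ζ) := by
      intro x hx
      obtain ⟨u, -, v, hv, ζ, hζ, e⟩ := Cfsg.Agent.H6.ORE.FPz.of_left (es D) (a := yy h) 1
        (fun x hx hf => yy_fpf h D hx hf) x hx
      refine ⟨ζ, hζ, v, yy h, ?_⟩
      have hz := (es D).central
      have hzi : ζ * ζ = 1 := by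
        rcases hζ with rfl | rfl
        · simp
        · exact (es D).sq
      calc x * ζ = u * (1 * u * 1⁻¹)⁻¹ * (v * (yy h * v * (yy h)⁻¹)⁻¹) * (ζ * ζ) := by rw [← mul_assoc, ← e]
        _ = _ := by rw [hzi]; group
    by_cases h1 : c = 1
    · rw [h1]; exact isC_one
    by_cases h2 : c = zz γ
    · rw [h2]
      -- two non-commuting elements of `Q`
      have : ∃ x ∈ π.ker, ∃ y ∈ π.ker, x * y ≠ y * x := by
        by_contra hno
        push Not at hno
        have h0 : cc γ 0 ∈ Q0 γ := h.cc_mem 0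
        have hC : cc γ 0 ∈ Subgroup.centralizer ({γ 1} : Set G) :=
          Subgroup.mem_centralizer_singleton_iff.2 (D.large.comm_z _ h0)
        have hk : (⟨cc γ 0, hC⟩ : Subgroup.centralizer ({γ 1} : Set G)) ∈ π.ker := by rw [mem_ker D]; exact h0
        have h6 := mask_c h.data 0
        rcases (es D).nd _ hk (fun y hy => hno _ hk y hy) with e1 | e1
        · have e2 : cc γ 0 = 1 := congrArg Subtype.val e1
          rw [e2] at h6
          exact absurd (unique h.data h6 (mask_one h.data)) (by decide +kernel)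
        · have e2 : cc γ 0 = γ 1 := congrArg Subtype.val e1
          rw [e2] at h6
          exact absurd (unique h.data h6 (mask_a h.data)) (by decide +kernel)
      obtain ⟨x, hx, y, hy, hxy⟩ := this
      rcases (es D).comm x hx y hy with e | e
      · exact absurd e hxy
      · refine ⟨x, y, ?_⟩
        rw [e, (es D).central]
        group
    · -- `c` and `c z` are conjugate
      obtain ⟨ζ, hζ, hcz⟩ := key c hc
      rcases hζ with rfl | rfl
      · rwa [mul_one] at hcz
      · have : ∃ y ∈ π.ker, c * y ≠ y * c := by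
          by_contra hno
          push Not at hno
          rcases (es D).nd _ hc (fun y hy => hno y hy) with e1 | e1
          · exact h1 e1
          · exact h2 e1
        obtain ⟨y, hy, hne⟩ := this
        rcases (es D).comm c hc y hy with e | e
        · exact absurd e hne
        · refine IsC.of_conj y⁻¹ ?_
          have e3 : y⁻¹ * c * y⁻¹⁻¹ = c * zz γ := by
            rw [inv_inv, mul_assoc, e]
            group
          rwa [e3]
  · obtain ⟨α, β, e, h5, -⟩ := Cfsg.Agent.H683.Ore.A9.oreF_all (MulEquiv.refl (alternatingGroup (Fin 9))) (π c)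
    obtain ⟨a, rfl⟩ := D.surj α
    obtain ⟨b, rfl⟩ := D.surj β
    have hfp : Cfsg.Agent.H6.ORE.FPz π.ker (zz γ) a b :=
      Cfsg.Agent.H6.ORE.FPz.of_left (es D) b (fun x hx hf => fpf_of_dvd h D h5 hx hf)
    obtain ⟨a', b', -, -, e'⟩ := (es D).lift π hfp e (by
      by_contra hno
      push Not at hno
      exact hc (faithful h D fun x hx => hno x hx))
    exact ⟨a', b', e'⟩

end main

/-- **Every element of `Th` which commutes with the involution `gTh 1` is a commutator.** -/
theorem isC_of_comm {x : Cfsg.Spor.Th} (hx : x * gTh 1 = gTh 1 * x) : IsC x := by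
  obtain ⟨π, D⟩ := Cfsg.Agent.KFacts.Th.Main.exists_data Cfsg.Agent.KFacts.Th.Main.ctx
  have hC : x ∈ Subgroup.centralizer ({gTh 1} : Set Cfsg.Spor.Th) := Subgroup.mem_centralizer_singleton_iff.2 hx
  exact IsC.of_sub _ hC (isC_centralizer Cfsg.Agent.KFacts.Th.Main.ctx D ⟨x, hC⟩)

/-- **Every element of `Th` which commutes with an involution is a commutator.** -/
theorem isC_of_comm_inv {x i : Cfsg.Spor.Th} (hi : orderOf i = 2) (hx : x * i = i * x) : IsC x := by
  obtain ⟨g, hg⟩ := isConj_iff.1 (MonsterX.ThOneClass.oneClass i (gTh 1) hi MonsterX.ThOneClass.orderOf_a)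
  refine IsC.of_conj g (isC_of_comm ?_)
  rw [← hg]
  calc g * x * g⁻¹ * (g * i * g⁻¹) = g * (x * i) * g⁻¹ := by group
    _ = g * (i * x) * g⁻¹ := by rw [hx]
    _ = g * i * g⁻¹ * (g * x * g⁻¹) := by group

end Cfsg.Agent.H980.Ore.ThLoc
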