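import Cfsg.Agent.H78.Pw.Base
import Cfsg.Agent.H723.Spor.ThMix

/-!
# Pw (S2465) for the Thompson group: the 3-elements which commute with an involution (helper980)

* `conj_of_quot` : elements of order `p ^ k` with the same image modulo a normal `r`-subgroup are conjugate;
* `pr_three`, `pr_nine` : the elements of order 3 and 9 of `C(a)` are products of two elements of order 5 or 7.
-/

set_option autoImplicit false
set_option maxRecDepth 100000

namespace Cfsg.Agent.H980.Ore.PwTh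

open Subgroup Cfsg
open Cfsg.Agent.Th.Base Cfsg.Agent.Th.Word Cfsg.Agent.Th.RelWords Cfsg.Agent.Th.PermTab
  Cfsg.Agent.Th.KOracle Cfsg.Agent.Th.KPerm Cfsg.Agent.Th.NineAct Cfsg.Agent.Th.CStruct
  Cfsg.Agent.Th.COracleDef Cfsg.Agent.Th.COracleSound
open Cfsg.Agent.KFacts.Th.Mask Cfsg.Agent.KFacts.Th.Struct
open Cfsg.Agent.CpAutTh.Data Cfsg.Agent.CpAutTh.Alt Cfsg.Agent.CpAutTh.Local
open Cfsg.Agent.H723.Spor.ThMix Cfsg.Agent.H78.Pw

universe u v

/-- elements of order `p ^ n` with the same image modulo a normal `r`-subgroup, `r ≠ p`, are conjugate -/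
theorem conj_of_quot {C : Type u} {A : Type v} [Group C] [Finite C] [Group A] {r p n : ℕ} (hr : r.Prime) (hp : p.Prime)
    (hrp : r ≠ p) (f : C →* A) (hk : IsPGroup r ↥f.ker) {x y : C} (hx : orderOf x = p ^ n) (hy : orderOf y = p ^ n)
    (h : f x = f y) : ∃ q : C, q * x * q⁻¹ = y := by
  have : Fact r.Prime := ⟨hr⟩
  have : Fact p.Prime := ⟨hp⟩
  have hcop : (Nat.card ↥f.ker).Coprime p := by
    obtain ⟨m, hm⟩ := IsPGroup.iff_card.1 hk
    rw [hm]
    exact Nat.Coprime.pow_left m ((Nat.coprime_primes hr hp).2 hrp)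
  let M : Subgroup C := (zpowers (f x)).comap f
  have hxM : x ∈ M := mem_zpowers (f x)
  have hyM : y ∈ M := by
    change f y ∈ zpowers (f x)
    rw [← h]
    exact mem_zpowers _
  -- the order of the image
  have hinj : ∀ {z : C}, orderOf z = p ^ n → ∀ j : ℤ, f z ^ j = 1 → z ^ j = 1 := by
    intro z hz j hj
    have h2 : z ^ j ∈ f.ker := by rw [MonoidHom.mem_ker, map_zpow, hj]
    have h3 : orderOf (⟨z ^ j, h2⟩ : ↥f.ker) ∣ Nat.card ↥f.ker := orderOf_dvd_natCard _
    rw [Subgroup.orderOf_mk] at h3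
    have h4 : orderOf (z ^ j) ∣ p ^ n := by
      rw [← hz]
      apply orderOf_dvd_of_pow_eq_one
      rw [← zpow_natCast, ← zpow_mul, mul_comm, zpow_mul, zpow_natCast, pow_orderOf_eq_one, one_zpow]
    have h5 := Nat.dvd_gcd h3 h4
    rw [(hcop.pow_right n).gcd_eq_one] at h5
    exact orderOf_eq_one_iff.1 (Nat.dvd_one.1 h5)
  have hfx : orderOf (f x) = p ^ n := by
    apply Nat.dvd_antisymm
    · rw [← hx]; exact orderOf_map_dvd f x
    · rw [← hx]
      apply orderOf_dvd_of_pow_eq_one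
      have h1 := hinj hx (orderOf (f x)) (by rw [zpow_natCast, pow_orderOf_eq_one])
      rwa [zpow_natCast] at h1
  let g : ↥M →* ↥(zpowers (f x)) :=
    { toFun := fun m => ⟨f (m : C), m.2⟩
      map_one' := Subtype.ext (map_one f)
      map_mul' := fun a b => Subtype.ext (map_mul f (a : C) (b : C)) }
  have hg : Function.Surjective g := by
    rintro ⟨a, ha⟩
    obtain ⟨k, rfl⟩ := mem_zpowers_iff.1 ha
    refine ⟨⟨x ^ k, zpow_mem hxM k⟩, ?_⟩
    apply Subtype.ext
    exact map_zpow f x k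
  have hkg : Nat.card ↥g.ker = Nat.card ↥f.ker := by
    refine Nat.card_congr
      { toFun := fun m => ⟨((m : ↥M) : C), congrArg Subtype.val m.2⟩
        invFun := fun q => ⟨⟨(q : C), by
          have h1 : f (q : C) = 1 := q.2
          change f (q : C) ∈ zpowers (f x)
          rw [h1]
          exact one_mem _⟩, Subtype.ext q.2⟩
        left_inv := fun _ => rfl
        right_inv := fun _ => rfl }
  have hcM : Nat.card ↥M = Nat.card ↥f.ker * p ^ n := by
    rw [← Subgroup.card_mul_index g.ker, Subgroup.index_ker, MonoidHom.range_eq_top.2 hg, card_top, hkg,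
      Nat.card_zpowers, hfx]
  have hfac : (Nat.card ↥M).factorization p = n := by
    have h0 : Nat.card ↥f.ker ≠ 0 := Nat.card_pos.ne'
    rw [hcM, Nat.factorization_mul h0 (pow_ne_zero n hp.ne_zero), Finsupp.add_apply, hp.factorization_pow,
      Finsupp.single_eq_same]
    have h1 : ¬ p ∣ Nat.card ↥f.ker := by
      intro h1
      have h4 := Nat.dvd_gcd h1 (dvd_refl p)
      rw [hcop.gcd_eq_one] at h4
      exact hp.one_lt.ne' (Nat.dvd_one.1 h4)
    rw [Nat.factorization_eq_zero_of_not_dvd h1, zero_add]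
  let X : ↥M := ⟨x, hxM⟩
  let Y : ↥M := ⟨y, hyM⟩
  have hX : orderOf X = p ^ n := by rw [← hx, ← Subgroup.orderOf_coe]
  have hY : orderOf Y = p ^ n := by rw [← hy, ← Subgroup.orderOf_coe]
  let P : Sylow p ↥M := Sylow.ofCard (zpowers X) (by rw [Nat.card_zpowers, hX, hfac])
  let Q : Sylow p ↥M := Sylow.ofCard (zpowers Y) (by rw [Nat.card_zpowers, hY, hfac])
  obtain ⟨m, hm⟩ := MulAction.exists_smul_eq (↥M) P Q
  refine ⟨m, ?_⟩
  have h1 : m * X * m⁻¹ ∈ (Q : Subgroup ↥M) := by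
    rw [← hm]
    have h2 : X ∈ (P : Subgroup ↥M) := mem_zpowers X
    exact Subgroup.smul_mem_pointwise_smul X (MulAut.conj m) _ h2
  have h2 : m * X * m⁻¹ ∈ zpowers Y := h1
  obtain ⟨j, hj⟩ := mem_zpowers_iff.1 h2
  have h3 : y ^ j = m * x * (m : C)⁻¹ := congrArg Subtype.val hj
  -- `f m` commutes with `f x`
  have h4 : f y ^ j = f y := by
    obtain ⟨k, hk'⟩ := mem_zpowers_iff.1 m.2
    have hmk : f x ^ k = f m := hk'
    rw [← map_zpow, h3, map_mul, map_mul, map_inv, ← hmk, ← h]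
    have h5 := (Commute.refl (f x)).zpow_left k
    rw [h5.eq, mul_inv_cancel_right]
  have h7 : y ^ j = y := by
    have h8 : y ^ (j - 1) = 1 := hinj hy (j - 1) (by rw [zpow_sub, h4, zpow_one, mul_inv_cancel])
    have h9 : j = (j - 1) + 1 := by ring
    rw [h9, zpow_add, h8, one_mul, zpow_one]
  rw [← h3, h7]

/-! ### words -/

def A3 : List ℕ := [11, 7, 5, 6, 5, 6, 10]
def A33 : List ℕ := [6, 11, 9, 6, 8, 10, 7]
def A333 : List ℕ := [6]
def W9a : List ℕ := [6, 5, 4, 6, 6]
def W9b : List ℕ := [4, 7, 10, 4, 10, 3, 5, 7, 4, 11, 5, 6, 5, 10, 4, 6, 5, 3]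

theorem kA3 : corc (pw A3 7) = true := by decide +kernel
theorem kB3 : corc (pw (iw A3 ++ X3) 5) = true := by decide +kernel
theorem kA33 : corc (pw A33 7) = true := by decide +kernel
theorem kB33 : corc (pw (iw A33 ++ X33) 7) = true := by decide +kernel
theorem kA333 : corc (pw A333 7) = true := by decide +kernel
theorem kB333 : corc (pw (iw A333 ++ X333) 7) = true := by decide +kernel
theorem kB9a : corc (pw (iw A333 ++ W9a) 7) = true := by decide +kernel
theorem kA9b : corc (pw X5 5) = true := by decide +kernel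
theorem kB9b : corc (pw (iw X5 ++ W9b) 7) = true := by decide +kernel
theorem k9a : corc (pw W9a 9) = true := by decide +kernel
theorem k9b : corc (pw W9b 9) = true := by decide +kernel

theorem c9a : ∀ x ∈ W9a, isC x = true := by decide +kernel
theorem c9b : ∀ x ∈ W9b, isC x = true := by decide +kernel

theorem t9a : (pm9 W9a).cycleType = {9} := by decide +kernel
theorem t9b : (pm9 W9b).cycleType = {9} := by decide +kernel

/-- an odd permutation conjugating the images -/
def tau : Equiv.Perm (Fin 9) :=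
  ⟨![0, 3, 8, 1, 2, 7, 4, 5, 6], ![0, 3, 4, 1, 6, 7, 8, 5, 2], by decide, by decide⟩

theorem tau_conj : tau * pm9 W9a = pm9 W9b * tau := by decide +kernel
theorem tau_sign : Equiv.Perm.sign tau = -1 := by decide +kernel

section

variable {G : Type u} [Group G] {γ : ℕ → G} (h : Ctx γ)
include h

theorem pow_of {w : List ℕ} {n : ℕ} (hw : corc (pw w n) = true) : ev γ w ^ n = 1 := by
  rw [← ev_pw]
  exact ev_one h hw

theorem pr_word {X A : List ℕ} {i j : ℕ} (hA : corc (pw A i) = true) (hB : corc (pw (iw A ++ X) j) = true)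
    (hi : i.Coprime 6) (hj : j.Coprime 6) : Pr 6 (ev γ X) := by
  refine Pr.mk (a := ev γ A) (b := ev γ (iw A ++ X)) ?_ ?_ ?_
  · rw [ev_append, ev_iw h.inv, mul_inv_cancel_left]
  · exact Nat.Coprime.of_dvd_left (orderOf_dvd_of_pow_eq_one (pow_of h hA)) hi
  · exact Nat.Coprime.of_dvd_left (orderOf_dvd_of_pow_eq_one (pow_of h hB)) hj

variable {f : sub γ isC →* alternatingGroup (Fin 9)} (F : Epi γ f)
include F

omit h F in
theorem pr_of {X : List ℕ} (hX : ∀ x ∈ X, isC x = true) (hp : Pr 6 (ev γ X)) {x : sub γ isC}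
    (hx : ∃ g : sub γ isC, g * x * g⁻¹ = ⟨ev γ X, ev_mem_sub hX⟩) : Pr 6 (x : G) := by
  obtain ⟨g, hg⟩ := hx
  have h1 : (g : G) * x * (g : G)⁻¹ = ev γ X := congrArg Subtype.val hg
  rw [← h1] at hp
  exact hp.of_conj

/-- **the elements of order 3 of `C(a)`** -/
theorem pr_three {x : sub γ isC} (hx : orderOf x = 3) : Pr 6 (x : G) := by
  obtain ⟨g, h1⟩ := exists_rep_three h F hx
  rcases h1 with h1 | h1 | h1
  · exact pr_of c3 (pr_word h kA3 kB3 (by decide) (by decide)) ⟨g, h1⟩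
  · exact pr_of c33 (pr_word h kA33 kB33 (by decide) (by decide)) ⟨g, h1⟩
  · exact pr_of c333 (pr_word h kA333 kB333 (by decide) (by decide)) ⟨g, h1⟩

theorem order9 {X : List ℕ} (hX : ∀ x ∈ X, isC x = true) (h1 : corc (pw X 9) = true)
    (h2 : (pm9 X).cycleType = {9}) : orderOf (⟨ev γ X, ev_mem_sub hX⟩ : sub γ isC) = 3 ^ 2 := by
  have := finC h
  apply Nat.dvd_antisymm
  · exact orderOf_dvd_of_pow_eq_one (Subtype.ext (pow_of h h1))
  · have h3 : orderOf (f ⟨ev γ X, ev_mem_sub hX⟩) = 9 := by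
      rw [← Subgroup.orderOf_coe, F.word X hX, ← Equiv.Perm.lcm_cycleType, h2]
      decide
    have h4 := orderOf_map_dvd f ⟨ev γ X, ev_mem_sub hX⟩
    rw [h3] at h4
    exact h4

/-- **the elements of order 9 of `C(a)`** -/
theorem pr_nine {x : sub γ isC} (hx : orderOf x = 9)
    (ht : ((f x : alternatingGroup (Fin 9)) : Equiv.Perm (Fin 9)).cycleType = {9}) : Pr 6 (x : G) := by
  have := finC h
  obtain ⟨σ, hσ⟩ := isConj_iff.1 (Equiv.Perm.isConj_iff_cycleType_eq.2 (ht.trans t9a.symm))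
  have key : ∀ (X : List ℕ) (hX : ∀ x ∈ X, isC x = true) (h1 : corc (pw X 9) = true)
      (h2 : (pm9 X).cycleType = {9}) (π : Equiv.Perm (Fin 9)) (hπ : Equiv.Perm.sign π = 1)
      (hc : π * ((f x : alternatingGroup (Fin 9)) : Equiv.Perm (Fin 9)) * π⁻¹ = pm9 X),
      ∃ g : sub γ isC, g * x * g⁻¹ = ⟨ev γ X, ev_mem_sub hX⟩ := by
    intro X hX h1 h2 π hπ hc
    obtain ⟨k, hk⟩ := F.surj ⟨π, Equiv.Perm.mem_alternatingGroup.2 hπ⟩
    have h3 : f (k * x * k⁻¹) = f ⟨ev γ X, ev_mem_sub hX⟩ := by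
      apply Subtype.ext
      rw [F.word X hX, ← hc, map_mul, map_mul, map_inv, hk]
      rfl
    have h4 : orderOf (k * x * k⁻¹) = 3 ^ 2 := by
      rw [show (3 ^ 2 : ℕ) = 9 by norm_num, ← hx]
      exact MulEquiv.orderOf_eq (MulAut.conj k) x
    obtain ⟨q, hq⟩ := conj_of_quot Nat.prime_two Nat.prime_three (by norm_num) f (ker_two h F) h4
      (order9 h F hX h1 h2) h3
    refine ⟨q * k, ?_⟩
    rw [← hq]
    group
  rcases Int.units_eq_one_or (Equiv.Perm.sign σ) with h1 | h1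
  · exact pr_of c9a (pr_word h kA333 kB9a (by decide) (by decide)) (key W9a c9a k9a t9a σ h1 hσ)
  · refine pr_of c9b (pr_word h kA9b kB9b (by decide) (by decide)) (key W9b c9b k9b t9b (tau * σ) ?_ ?_)
    · rw [map_mul, h1, tau_sign]; decide
    · have h2 : tau * pm9 W9a * tau⁻¹ = pm9 W9b := by rw [tau_conj, mul_inv_cancel_right]
      rw [← h2, ← hσ]
      group

end

end Cfsg.Agent.H980.Ore.PwTh
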